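import Cfsg.Agent.H46.TL.Scale

/-!
# Fixed pairs in dimension 5
-/

set_option autoImplicit false

namespace Cfsg.Agent.H46.TL

open Polynomial Cfsg.Agent.H962.PP

universe u v

/-- `b⁵ g(1/b)`, `g = X⁵ + p X⁴ + q X³ + r X² + s X - 1` -/
def G5 {F : Type u} [CommRing F] (p q r s b : F) : F := 1 + b * (p + b * (q + b * (r + b * (s - b))))

/-- the finite checks -/
structure Chk5 (F : Type u) [CommRing F] (f4 f3 f2 f1 g4 g3 g2 g1 : F) : Prop where
  cyc : ∀ t : F, ∃ a b Y : F, a ≠ 0 ∧ b ≠ 0 ∧ Y ≠ 1 ∧ Y * (a * f4 - 3 + a * b * t - Y) + a ^ 5 * G5 g4 g3 g2 g1 b = 0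
  one : ∀ k t : F, k ≠ 0 → ∃ a b Y : F, a ≠ 0 ∧ b ≠ 0 ∧ Y ≠ 1 ∧ Y ≠ a * b * k ∧
    (a * b * k) * (Y * (a * f4 - 2 + a * b * t - Y)) + a ^ 5 * G5 g4 g3 g2 g1 b = 0
  two : ∀ s t : F, ∃ a b Y : F, a ≠ 0 ∧ b ≠ 0 ∧ Y ≠ 1 ∧ a * b * s ≠ 1 ∧ Y ≠ a * b * s - 1 ∧
    (a * b * s - 1) * (Y * (a * f4 - 1 + a * b * t - Y)) + a ^ 5 * G5 g4 g3 g2 g1 b = 0
  exc : ∀ c : F, c ≠ 0 → ¬ (g4 = -(c * f1) ∧ g3 = -(c ^ 2 * f2) ∧ g2 = -(c ^ 3 * f3) ∧ g1 = -(c ^ 4 * f4) ∧ c ^ 5 = 1)

variable {F : Type u} [Field F]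

theorem qt_coeff (a b c d e : F) : (qt a b c d e).coeff 3 = b ∧ (qt a b c d e).coeff 2 = c ∧
    (qt a b c d e).coeff 1 = d := by
  rw [qt]
  refine ⟨?_, ?_, ?_⟩ <;> simp [coeff_X, coeff_one, coeff_C]

theorem irr_ne {f : F[X]} (hfi : Irreducible f) (hd : 2 ≤ f.natDegree) : f.coeff 0 ≠ 0 := by
  intro h0
  have h2 : (X : F[X]) ∣ f := X_dvd_iff.2 h0
  have h3 := (hfi.dvd_iff.1 h2).resolve_left not_isUnit_X
  have h4 := natDegree_eq_of_degree_eq (degree_eq_degree_of_associated h3)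
  rw [natDegree_X] at h4
  omega

variable {V : Type v} [AddCommGroup V] [Module F V] [FiniteDimensional F V]

/-- from `Z` to `X = Z⁻¹` -/
theorem dec_of_inv5 (hV : Module.finrank F V = 5) {A : Module.End F V} (hdet : LinearMap.det A ≠ 0)
    {f4 f3 f2 f1 : F} {g : F[X]} (hfi : Irreducible (qt f4 f3 f2 f1 (-1)))
    (h : ∃ Z : Module.End F V, LinearMap.charpoly (A * Z) = g ∧
      LinearMap.charpoly Z = qt (-f1) (-f2) (-f3) (-f4) (-1)) : Dec A (qt f4 f3 f2 f1 (-1)) g := by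
  obtain ⟨Z, h1, h2⟩ := h
  have hZ : LinearMap.det Z ≠ 0 := by
    rw [LinearMap.det_eq_sign_charpoly_coeff, h2, qt_zero]
    simp
  obtain ⟨E, hE⟩ : ∃ E : V ≃ₗ[F] V, E = LinearMap.equivOfDetNeZero Z hZ := ⟨_, rfl⟩
  have hEZ : ∀ v, Z v = E v := fun v => by rw [hE]; rfl
  obtain ⟨T, hT⟩ : ∃ T : Module.End F V, T = (E.symm : V →ₗ[F] V) := ⟨_, rfl⟩
  have hZT : ∀ v, Z (T v) = v := fun v => by rw [hEZ, hT]; exact E.apply_symm_apply v
  refine ⟨T, A * Z, ?_, ?_, h1⟩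
  · ext v
    rw [Module.End.mul_apply, Module.End.mul_apply, hZT]
  · have : Nontrivial V := Module.finrank_pos_iff.1 (by rw [hV]; norm_num)
    obtain ⟨v, hv⟩ := exists_ne (0 : V)
    refine charpoly_of_kill T (qt_monic ..) hfi ((qt_natDegree ..).trans hV.symm) hv ?_
    have h3 : aeval Z (qt (-f1) (-f2) (-f3) (-f4) (-1)) (T (T (T (T (T v))))) = 0 := by
      rw [← h2, LinearMap.aeval_self_charpoly]; rfl
    rw [qt] at h3 ⊢
    simp only [map_add, map_mul, map_pow, aeval_X, aeval_C, map_neg, map_one, LinearMap.add_apply, Module.End.mul_apply,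
      pow_succ, pow_zero, one_mul, Module.End.one_apply, hZT, LinearMap.neg_apply, Algebra.algebraMap_eq_smul_one,
      LinearMap.smul_apply] at h3 ⊢
    have h4 := congrArg Neg.neg h3
    rw [neg_zero] at h4
    rw [← h4]
    abel

/-- **dimension 5** -/
theorem five_dec [Finite F] {f4 f3 f2 f1 g4 g3 g2 g1 : F} (hc : Chk5 F f4 f3 f2 f1 g4 g3 g2 g1)
    (hfi : Irreducible (qt f4 f3 f2 f1 (-1))) (hgi : Irreducible (qt g4 g3 g2 g1 (-1)))
    (hV : Module.finrank F V = 5) (A : Module.End F V) (hdet : LinearMap.det A = 1) (hns : ∀ c : F, A ≠ c • 1) :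
    Dec A (qt f4 f3 f2 f1 (-1)) (qt g4 g3 g2 g1 (-1)) := by
  have hG : ∀ b : F, b ≠ 0 → (scl b (qt g4 g3 g2 g1 (-1))).eval 1 = G5 g4 g3 g2 g1 b := by
    intro b hb
    rw [scl_eval_one, qt_natDegree, qt_eval, G5]
    field_simp
    ring
  obtain ⟨hg3, hg2, hg1⟩ := qt_coeff g4 g3 g2 g1 (-1)
  have hfm := qt_monic f4 f3 f2 f1 (-1)
  have hfd := qt_natDegree f4 f3 f2 f1 (-1)
  have hgm := qt_monic g4 g3 g2 g1 (-1)
  have hgd := qt_natDegree g4 g3 g2 g1 (-1)
  have hf4 := qt_four f4 f3 f2 f1 (-1)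
  have hf0 := qt_zero f4 f3 f2 f1 (-1)
  have hg0 := qt_zero g4 g3 g2 g1 (-1)
  rcases dich A with ⟨q, hq, hqi, hq3, hqk⟩ | ⟨v1, v2, e1, e2, he1, he2, hle, hsum, hs, ha1, ha2, hd⟩
  · have hq1 : q.natDegree = 1 := by
      have := hqi.natDegree_pos
      omega
    obtain ⟨c, hcq⟩ : ∃ c, q = X - C c := ⟨-q.coeff 0, by
      rw [C_neg, sub_neg_eq_add]
      exact hq.eq_X_add_C hq1⟩
    have hk := hqk c hcq
    have hrk := LinearMap.finrank_range_add_finrank_ker (A - c • (1 : Module.End F V))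
    have hc0 : c ≠ 0 := by
      rintro rfl
      rw [zero_smul, sub_zero] at hk
      have h2 : LinearMap.ker A = ⊥ := LinearMap.ker_eq_bot.2
        (LinearMap.equivOfDetNeZero A (by rw [hdet]; exact one_ne_zero)).injective
      rw [h2, finrank_bot] at hk
      omega
    refine dec_of_inv5 hV (by rw [hdet]; exact one_ne_zero) hfi ?_
    obtain ⟨k3, k2, k1⟩ := qt_coeff (-f1) (-f2) (-f3) (-f4) (-1)
    have k4 := qt_four (-f1) (-f2) (-f3) (-f4) (-1)
    have k0 := qt_zero (-f1) (-f2) (-f3) (-f4) (-1)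
    have kd := qt_natDegree (-f1) (-f2) (-f3) (-f4) (-1)
    refine Cfsg.Agent.H130.War.exists_rank_le_two (m := 5) le_rfl hV hc0 (by omega) (hns c) hgm hgd
      (by rw [hg0]; simp) (qt_monic ..) kd (by rw [k0]; simp) (by rw [hdet, hg0, k0, one_mul]) ?_
    intro h
    have h' : qt g4 g3 g2 g1 (-1) = scl c (qt (-f1) (-f2) (-f3) (-f4) (-1)) := by rw [scl, kd]; exact h
    have hco : ∀ i ≤ 5, (qt g4 g3 g2 g1 (-1)).coeff i = c ^ (5 - i) * (qt (-f1) (-f2) (-f3) (-f4) (-1)).coeff i := by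
      intro i hi
      conv_lhs => rw [h']
      rw [scl_coeff hc0 _ (by omega), kd]
    have c4 := hco 4 (by norm_num)
    have c3 := hco 3 (by norm_num)
    have c2 := hco 2 (by norm_num)
    have c1 := hco 1 (by norm_num)
    have c0 := hco 0 (by norm_num)
    rw [qt_four, k4] at c4
    rw [hg3, k3] at c3
    rw [hg2, k2] at c2
    rw [hg1, k1] at c1
    rw [hg0, k0] at c0
    norm_num at c4 c3 c2 c1 c0
    refine hc.exc c hc0 ⟨c4, c3, c2, c1, c0.symm⟩
  · have hdet' : e1.coeff 0 * e2.coeff 0 = -1 := by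
      rw [hsum, hV, hdet] at hd
      linear_combination hd
    have hcase : e1.natDegree = 0 ∨ e1.natDegree = 1 ∨ e1.natDegree = 2 := by omega
    have h10 : e1.coeff 0 ≠ 0 := by
      intro h
      rw [h, zero_mul] at hdet'
      exact one_ne_zero (neg_eq_zero.1 hdet'.symm)
    rcases hcase with h | h | h
    · have h2 : e2.natDegree = 5 := by omega
      have hg1' : e1 = 1 := he1.natDegree_eq_zero.1 h
      rw [h, h2] at hs
      rw [hg1', coeff_one_zero, one_mul] at hdet'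
      obtain ⟨a, b, Y, ha, hb, hY, heq⟩ := hc.cyc (-e2.coeff 4)
      refine cyc_sc (k := 3) hV A (v := v2) he2 h2 (hs.trans (Submodule.span_mono ?_)) ha2 hfm hfi hfd hgm hgi hgd
        (by rw [hdet', hf0, hg0]; norm_num) ha hb hY ?_
      · refine Set.union_subset ?_ ?_
        · rintro _ ⟨i, rfl⟩; exact i.elim0
        · rintro _ ⟨i, rfl⟩; exact ⟨i, rfl⟩
      · rw [hG b hb, hf4, hf0]
        push_cast
        linear_combination heq
    · have h2 : e2.natDegree = 4 := by omega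
      rw [h, h2] at hs
      obtain ⟨a, b, Y, ha, hb, hY, hYk, heq⟩ := hc.one (-e1.coeff 0) (-e2.coeff 3) (neg_ne_zero.2 h10)
      refine two_sc (ρ := 0) (σ := 1) hV A (v := v2) (w := v1) he2 h2 he1 h hs ha2 ha1 hfm hfi hfd hgm hgi hgd h10
        (by rw [hdet', hf0, hg0]; norm_num) ha hb hY ?_ ?_ ?_
      · intro h5
        apply mul_ne_zero (mul_ne_zero ha hb) (neg_ne_zero.2 h10)
        push_cast at h5
        linear_combination h5
      · intro h5
        apply hYk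
        rw [h5]
        push_cast
        ring
      · rw [hG b hb, hf0]
        change _ * (Y * (_ + a * (qt f4 f3 f2 f1 (-1)).coeff 4 - _ - _)) = _
        rw [hf4]
        push_cast
        linear_combination heq
    · have h2 : e2.natDegree = 3 := by omega
      rw [h, h2] at hs
      obtain ⟨a, b, Y, ha, hb, hY, hl, hYk, heq⟩ := hc.two (-e1.coeff 1) (-e2.coeff 2)
      refine two_sc (ρ := 1) (σ := 0) hV A (v := v2) (w := v1) he2 h2 he1 h hs ha2 ha1 hfm hfi hfd hgm hgi hgd h10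
        (by rw [hdet', hf0, hg0]; norm_num) ha hb hY ?_ ?_ ?_
      · intro h5
        apply hl
        push_cast at h5
        linear_combination h5
      · intro h5
        apply hYk
        rw [h5]
        push_cast
        ring
      · rw [hG b hb, hf0]
        change _ * (Y * (_ + a * (qt f4 f3 f2 f1 (-1)).coeff 4 - _ - _)) = _
        rw [hf4]
        push_cast
        linear_combination heq

end Cfsg.Agent.H46.TL
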