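import Cfsg.Agent.H46.TL.Five

/-!
# Fixed pairs in dimension 4
-/

set_option autoImplicit false
set_option linter.unusedSimpArgs false
set_option linter.unusedVariables false

namespace Cfsg.Agent.H46.TL

open Polynomial Cfsg.Agent.H962.PP Module

universe u v

/-- `b⁴ g(1/b)`, `g = X⁴ + p X³ + q X² + r X + 1` -/
def G4 {F : Type u} [CommRing F] (p q r b : F) : F := 1 + b * (p + b * (q + b * (r + b)))

/-- the matrix of `C(x² - t x + d) ⊕ C(x² - t x + d)` -/
def BB {F : Type u} [CommRing F] (t d : F) : Matrix (Fin 4) (Fin 4) F :=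
  !![0, -d, 0, 0; 1, t, 0, 0; 0, 0, 0, -d; 0, 0, 1, t]

/-- the finite checks -/
structure Chk4 (F : Type u) [CommRing F] (f3 f2 f1 g3 g2 g1 : F) : Prop where
  cyc : ∀ t : F, ∃ a b Y : F, a ≠ 0 ∧ b ≠ 0 ∧ Y ≠ 1 ∧ Y * (a * f3 - 2 + a * b * t - Y) = a ^ 4 * G4 g3 g2 g1 b
  one : ∀ k t : F, k ≠ 0 → ∃ a b Y : F, a ≠ 0 ∧ b ≠ 0 ∧ Y ≠ 1 ∧ Y ≠ a * b * k ∧
    (a * b * k) * (Y * (a * f3 - 1 + a * b * t - Y)) = a ^ 4 * G4 g3 g2 g1 b
  two : ∀ t d : F, d ^ 2 = 1 → (∀ x : F, x ^ 2 - t * x + d ≠ 0) → ∃ X Y : Matrix (Fin 4) (Fin 4) F, Y * X = BB t d ∧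
    (∀ j, (X ^ 4 + f3 • X ^ 3 + f2 • X ^ 2 + f1 • X + 1 : Matrix (Fin 4) (Fin 4) F) j 0 = 0) ∧
    (∀ j, (Y ^ 4 + g3 • Y ^ 3 + g2 • Y ^ 2 + g1 • Y + 1 : Matrix (Fin 4) (Fin 4) F) j 0 = 0)
  exc : ∀ c : F, c ≠ 0 → ¬ (g3 = c * f1 ∧ g2 = c ^ 2 * f2 ∧ g1 = c ^ 3 * f3 ∧ c ^ 4 = 1)

variable {F : Type u} [Field F]

/-- `X⁴ + a X³ + b X² + c X + 1` -/
noncomputable def kt (a b c : F) : F[X] := X ^ 4 + C a * X ^ 3 + C b * X ^ 2 + C c * X + 1

theorem kt_monic (a b c : F) : (kt a b c).Monic := by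
  rw [kt]; monicity!

theorem kt_natDegree (a b c : F) : (kt a b c).natDegree = 4 := by
  rw [kt]; compute_degree!

theorem kt_coeff (a b c : F) : (kt a b c).coeff 3 = a ∧ (kt a b c).coeff 2 = b ∧
    (kt a b c).coeff 1 = c ∧ (kt a b c).coeff 0 = 1 := by
  rw [kt]
  refine ⟨?_, ?_, ?_, ?_⟩ <;> simp [coeff_X, coeff_one, coeff_C]

theorem kt_eval (a b c x : F) : (kt a b c).eval x = x ^ 4 + a * x ^ 3 + b * x ^ 2 + c * x + 1 := by
  rw [kt]
  simp

variable {V : Type v} [AddCommGroup V] [Module F V] [FiniteDimensional F V]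

/-- from `Z` to `X = Z⁻¹` -/
theorem dec_of_inv4 (hV : Module.finrank F V = 4) {A : Module.End F V}
    {f3 f2 f1 : F} {g : F[X]} (hfi : Irreducible (kt f3 f2 f1))
    (h : ∃ Z : Module.End F V, LinearMap.charpoly (A * Z) = g ∧
      LinearMap.charpoly Z = kt f1 f2 f3) : Dec A (kt f3 f2 f1) g := by
  obtain ⟨Z, h1, h2⟩ := h
  have hZ : LinearMap.det Z ≠ 0 := by
    rw [LinearMap.det_eq_sign_charpoly_coeff, h2, (kt_coeff f1 f2 f3).2.2.2]
    simp
  obtain ⟨E, hE⟩ : ∃ E : V ≃ₗ[F] V, E = LinearMap.equivOfDetNeZero Z hZ := ⟨_, rfl⟩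
  have hEZ : ∀ v, Z v = E v := fun v => by rw [hE]; rfl
  obtain ⟨T, hT⟩ : ∃ T : Module.End F V, T = (E.symm : V →ₗ[F] V) := ⟨_, rfl⟩
  have hZT : ∀ v, Z (T v) = v := fun v => by rw [hEZ, hT]; exact E.apply_symm_apply v
  refine ⟨T, A * Z, ?_, ?_, h1⟩
  · ext v
    rw [Module.End.mul_apply, Module.End.mul_apply, hZT]
  · have : Nontrivial V := Module.finrank_pos_iff.1 (by rw [hV]; norm_num)
    obtain ⟨v, hv⟩ := exists_ne (0 : V)
    refine charpoly_of_kill T (kt_monic ..) hfi ((kt_natDegree ..).trans hV.symm) hv ?_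
    have h3 : aeval Z (kt f1 f2 f3) (T (T (T (T v)))) = 0 := by
      rw [← h2, LinearMap.aeval_self_charpoly]; rfl
    rw [kt] at h3 ⊢
    simp only [map_add, map_mul, map_pow, aeval_X, aeval_C, map_neg, map_one, LinearMap.add_apply, Module.End.mul_apply,
      pow_succ, pow_zero, one_mul, Module.End.one_apply, hZT, LinearMap.neg_apply, Algebra.algebraMap_eq_smul_one,
      LinearMap.smul_apply] at h3 ⊢
    rw [← h3]
    abel

omit [FiniteDimensional F V] in
theorem aeval_mod {A : Module.End F V} {G : F[X]} (hG : G.Monic) {v : V} (h0 : aeval A G v = 0) (p : F[X]) :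
    aeval A p v ∈ Submodule.span F (Set.range fun i : Fin G.natDegree => (A ^ (i : ℕ)) v) := by
  by_cases h1 : G = 1
  · rw [h1, map_one] at h0
    have : v = 0 := h0
    rw [this, map_zero]
    exact zero_mem _
  have hlt := natDegree_modByMonic_lt p hG h1
  have e1 : aeval A p v = aeval A (p %ₘ G) v := by
    conv_lhs => rw [← modByMonic_add_div p G, mul_comm G]
    rw [map_add, map_mul, LinearMap.add_apply, Module.End.mul_apply, h0, map_zero, add_zero]
  rw [e1, aeval_eq_sum_range' hlt, LinearMap.sum_apply]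
  refine Submodule.sum_mem _ fun i hi => ?_
  rw [LinearMap.smul_apply]
  exact Submodule.smul_mem _ _ (Submodule.subset_span ⟨⟨i, Finset.mem_range.1 hi⟩, rfl⟩)

omit [FiniteDimensional F V] in
/-- two coprime blocks make a cyclic element -/
theorem cyc_of_coprime {A : Module.End F V} {e1 e2 : F[X]} (he1 : e1.Monic) (he2 : e2.Monic)
    (hco : IsCoprime e1 e2) {v1 v2 : V} (h1 : aeval A e1 v1 = 0) (h2 : aeval A e2 v2 = 0)
    (hs : ⊤ ≤ Submodule.span F (Set.range (fun i : Fin e1.natDegree => (A ^ (i : ℕ)) v1) ∪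
        Set.range fun i : Fin e2.natDegree => (A ^ (i : ℕ)) v2)) :
    ⊤ ≤ Submodule.span F (Set.range fun i : Fin (e1 * e2).natDegree => (A ^ (i : ℕ)) (v1 + v2)) ∧
      aeval A (e1 * e2) (v1 + v2) = 0 := by
  have h0 : aeval A (e1 * e2) (v1 + v2) = 0 := by
    rw [map_add, map_mul, Module.End.mul_apply, Module.End.mul_apply, h2, map_zero, add_zero, ← Module.End.mul_apply,
      ← map_mul, mul_comm, map_mul, Module.End.mul_apply, h1, map_zero]
  refine ⟨?_, h0⟩
  obtain ⟨a, b, hab⟩ := hco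
  have k1 : aeval A (b * e2) v1 = v1 := by
    have : aeval A (a * e1 + b * e2) v1 = v1 := by rw [hab, map_one]; rfl
    rw [map_add, LinearMap.add_apply, map_mul (aeval A) a e1, Module.End.mul_apply _ _ v1, h1, map_zero, zero_add] at this
    exact this
  have k2 : aeval A (a * e1) v2 = v2 := by
    have : aeval A (a * e1 + b * e2) v2 = v2 := by rw [hab, map_one]; rfl
    rw [map_add, LinearMap.add_apply, map_mul (aeval A) b e2, Module.End.mul_apply _ _ v2, h2, map_zero, add_zero] at this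
    exact this
  have m1 : ∀ i : ℕ, (A ^ i) v1 = aeval A (X ^ i * (b * e2)) (v1 + v2) := by
    intro i
    rw [map_mul, map_pow, aeval_X, Module.End.mul_apply, map_add, k1, map_mul (aeval A) b e2, Module.End.mul_apply _ _ v2, h2,
      map_zero, add_zero]
  have m2 : ∀ i : ℕ, (A ^ i) v2 = aeval A (X ^ i * (a * e1)) (v1 + v2) := by
    intro i
    rw [map_mul, map_pow, aeval_X, Module.End.mul_apply, map_add, k2, map_mul (aeval A) a e1, Module.End.mul_apply _ _ v1, h1,
      map_zero, zero_add]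
  refine hs.trans (Submodule.span_le.2 (Set.union_subset ?_ ?_))
  · rintro _ ⟨i, rfl⟩
    change (A ^ (i : ℕ)) v1 ∈ _
    rw [m1]
    exact aeval_mod (he1.mul he2) h0 _
  · rintro _ ⟨i, rfl⟩
    change (A ^ (i : ℕ)) v2 ∈ _
    rw [m2]
    exact aeval_mod (he1.mul he2) h0 _

/-- two equal blocks `C(x² - t x + d)` -/
theorem two_eq (hV : Module.finrank F V = 4) {A : Module.End F V} {v1 v2 : V} {t d : F}
    (h1 : A (A v1) = t • A v1 - d • v1) (h2 : A (A v2) = t • A v2 - d • v2)
    (hs : ⊤ ≤ Submodule.span F (Set.range ![v1, A v1, v2, A v2])) {f3 f2 f1 g3 g2 g1 : F}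
    (hfi : Irreducible (kt f3 f2 f1)) (hgi : Irreducible (kt g3 g2 g1))
    (h : ∃ X Y : Matrix (Fin 4) (Fin 4) F, Y * X = BB t d ∧
      (∀ j, (X ^ 4 + f3 • X ^ 3 + f2 • X ^ 2 + f1 • X + 1 : Matrix (Fin 4) (Fin 4) F) j 0 = 0) ∧
      (∀ j, (Y ^ 4 + g3 • Y ^ 3 + g2 • Y ^ 2 + g1 • Y + 1 : Matrix (Fin 4) (Fin 4) F) j 0 = 0)) :
    Dec A (kt f3 f2 f1) (kt g3 g2 g1) := by
  obtain ⟨X, Y, hYX, hX, hY⟩ := h
  let b := basisOfTopLeSpanOfCardEqFinrank (![v1, A v1, v2, A v2]) hs (by simp [hV])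
  have hb : ∀ i : Fin 4, b i = ![v1, A v1, v2, A v2] i := fun i => by
    simp [b, coe_basisOfTopLeSpanOfCardEqFinrank]
  let φ := Matrix.toLinAlgEquiv b
  have hA : φ (BB t d) = A := by
    refine b.ext fun i => ?_
    rw [Matrix.toLinAlgEquiv_self, Fin.sum_univ_four]
    simp only [hb]
    fin_cases i <;> simp [BB, h1, h2, sub_eq_neg_add]
  have key : ∀ (M : Matrix (Fin 4) (Fin 4) F) (p q r : F), Irreducible (kt p q r) →
      (∀ j, (M ^ 4 + p • M ^ 3 + q • M ^ 2 + r • M + 1 : Matrix (Fin 4) (Fin 4) F) j 0 = 0) →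
      LinearMap.charpoly (φ M) = kt p q r := by
    intro M p q r hi hM
    refine charpoly_of_kill (φ M) (kt_monic ..) hi ((kt_natDegree ..).trans hV.symm) (b.ne_zero 0) ?_
    have e1 : aeval (φ M) (kt p q r) = φ (M ^ 4 + p • M ^ 3 + q • M ^ 2 + r • M + 1) := by
      rw [kt]
      simp only [map_add, map_mul, map_pow, aeval_X, aeval_C, map_one, map_smul, Algebra.smul_def, AlgEquiv.commutes]
    rw [e1, Matrix.toLinAlgEquiv_self]
    exact Finset.sum_eq_zero fun j _ => by rw [hM j, zero_smul]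
  exact ⟨φ X, φ Y, by rw [← map_mul, hYX, hA], key X _ _ _ hfi hX, key Y _ _ _ hgi hY⟩

theorem quad_form {e : F[X]} (he : e.Monic) (hd : e.natDegree = 2) : e = X ^ 2 + C (e.coeff 1) * X + C (e.coeff 0) := by
  conv_lhs => rw [e.as_sum_range_C_mul_X_pow, hd, Finset.sum_range_succ, Finset.sum_range_succ, Finset.sum_range_succ,
    Finset.sum_range_zero]
  have h1 : e.coeff 2 = 1 := by rw [← hd]; exact he.coeff_natDegree
  rw [h1]
  simp only [map_one, pow_zero, mul_one, zero_add, pow_one, one_mul]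
  ring

/-- two blocks with a common root -/
theorem two_le_ker (hV : Module.finrank F V = 4) {A : Module.End F V} {v1 v2 : V} {c1 c2 k : F}
    (h1 : A (A v1 + c1 • v1) = k • (A v1 + c1 • v1)) (h2 : A (A v2 + c2 • v2) = k • (A v2 + c2 • v2))
    (hs : ⊤ ≤ Submodule.span F (Set.range ![v1, A v1, v2, A v2])) :
    2 ≤ Module.finrank F (LinearMap.ker (A - k • (1 : Module.End F V))) := by
  have hli := linearIndependent_of_top_le_span_of_card_eq_finrank hs (by simp [hV])
  have hm1 : A v1 + c1 • v1 ∈ LinearMap.ker (A - k • (1 : Module.End F V)) := by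
    rw [LinearMap.mem_ker, LinearMap.sub_apply, LinearMap.smul_apply, Module.End.one_apply, h1, sub_self]
  have hm2 : A v2 + c2 • v2 ∈ LinearMap.ker (A - k • (1 : Module.End F V)) := by
    rw [LinearMap.mem_ker, LinearMap.sub_apply, LinearMap.smul_apply, Module.End.one_apply, h2, sub_self]
  have h3 : LinearIndependent F ![(⟨_, hm1⟩ : LinearMap.ker (A - k • (1 : Module.End F V))), ⟨_, hm2⟩] := by
    rw [LinearIndependent.pair_iff]
    intro a b hab
    have h4 : a • (A v1 + c1 • v1) + b • (A v2 + c2 • v2) = 0 := congrArg Subtype.val hab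
    rw [Fintype.linearIndependent_iff] at hli
    have h5 := hli ![a * c1, a, b * c2, b] (by
      rw [Fin.sum_univ_four, ← h4]
      simp only [Matrix.cons_val_zero, Matrix.cons_val_one, Matrix.cons_val]
      module)
    exact ⟨h5 1, h5 3⟩
  have := h3.fintype_card_le_finrank
  rwa [Fintype.card_fin] at this

theorem coprime_of {e1 e2 : F[X]} (he1 : e1.Monic) (he2 : e2.Monic) (h1 : e1.natDegree = 2) (h2 : e2.natDegree = 2)
    (hne : e1 ≠ e2) (hr : ¬ ∃ k, e1.IsRoot k ∧ e2.IsRoot k) : IsCoprime e1 e2 := by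
  refine isCoprime_of_irreducible_dvd (fun h => he1.ne_zero h.1) fun z hz hz1 hz2 => ?_
  have hz0 := hz.natDegree_pos
  have hzl : z.natDegree ≤ 2 := (natDegree_le_of_dvd hz1 he1.ne_zero).trans h1.le
  by_cases hd : z.natDegree = 1
  · obtain ⟨k, hk⟩ := exists_root_of_degree_eq_one (degree_eq_iff_natDegree_eq_of_pos (by norm_num) |>.2 hd)
    exact hr ⟨k, hk.dvd hz1, hk.dvd hz2⟩
  · have hd2 : z.natDegree = 2 := by omega
    have key : ∀ e : F[X], e.Monic → e.natDegree = 2 → z ∣ e → Associated z e := by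
      rintro e he hde ⟨c, rfl⟩
      have hc0 : c ≠ 0 := by rintro rfl; rw [mul_zero] at he; exact he.ne_zero rfl
      rw [natDegree_mul hz.ne_zero hc0, hd2] at hde
      have hu : IsUnit c := by
        rw [eq_C_of_natDegree_eq_zero (by omega : c.natDegree = 0)] at hc0 ⊢
        exact isUnit_C.2 (isUnit_iff_ne_zero.2 (C_ne_zero.1 hc0))
      exact ⟨hu.unit, rfl⟩
    exact hne (eq_of_monic_of_associated he1 he2 ((key e1 he1 h1 hz1).symm.trans (key e2 he2 h2 hz2)))

/-- **dimension 4** -/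
theorem four_dec [Finite F] (hF : 3 ≤ Nat.card F) {f3 f2 f1 g3 g2 g1 : F} (hc : Chk4 F f3 f2 f1 g3 g2 g1)
    (hfi : Irreducible (kt f3 f2 f1)) (hgi : Irreducible (kt g3 g2 g1))
    (hV : Module.finrank F V = 4) (A : Module.End F V) (hdet : LinearMap.det A = 1) (hns : ∀ c : F, A ≠ c • 1) :
    Dec A (kt f3 f2 f1) (kt g3 g2 g1) := by
  have hG : ∀ b : F, b ≠ 0 → (scl b (kt g3 g2 g1)).eval 1 = G4 g3 g2 g1 b := by
    intro b hb
    rw [scl_eval_one, kt_natDegree, kt_eval, G4]
    field_simp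
    ring
  obtain ⟨hg3, hg2, hg1, hg0⟩ := kt_coeff g3 g2 g1
  obtain ⟨hf3, hf2, hf1, hf0⟩ := kt_coeff f3 f2 f1
  have hfm := kt_monic f3 f2 f1
  have hfd := kt_natDegree f3 f2 f1
  have hgm := kt_monic g3 g2 g1
  have hgd := kt_natDegree g3 g2 g1
  have rk : ∀ c : F, 2 ≤ Module.finrank F (LinearMap.ker (A - c • (1 : Module.End F V))) →
      Dec A (kt f3 f2 f1) (kt g3 g2 g1) := by
    intro c hk
    have hrk := LinearMap.finrank_range_add_finrank_ker (A - c • (1 : Module.End F V))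
    have hc0 : c ≠ 0 := by
      rintro rfl
      rw [zero_smul, sub_zero] at hk
      have h2 : LinearMap.ker A = ⊥ := LinearMap.ker_eq_bot.2
        (LinearMap.equivOfDetNeZero A (by rw [hdet]; exact one_ne_zero)).injective
      rw [h2, finrank_bot] at hk
      omega
    refine dec_of_inv4 hV hfi ?_
    obtain ⟨k3, k2, k1, k0⟩ := kt_coeff f1 f2 f3
    have kd := kt_natDegree f1 f2 f3
    refine Cfsg.Agent.H130.War.exists_rank_le_two' (m := 4) (Or.inr ⟨rfl, hF⟩) hV hc0 (by omega) (hns c) hgm hgd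
      (by rw [hg0]; simp) (kt_monic ..) kd (by rw [k0]; simp) (by rw [hdet, hg0, k0, one_mul]) ?_
    intro h
    have h' : kt g3 g2 g1 = scl c (kt f1 f2 f3) := by rw [scl, kd]; exact h
    have hco : ∀ i ≤ 4, (kt g3 g2 g1).coeff i = c ^ (4 - i) * (kt f1 f2 f3).coeff i := by
      intro i hi
      conv_lhs => rw [h']
      rw [scl_coeff hc0 _ (by omega), kd]
    have c3 := hco 3 (by norm_num)
    have c2 := hco 2 (by norm_num)
    have c1 := hco 1 (by norm_num)
    have c0 := hco 0 (by norm_num)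
    rw [hg3, k3] at c3
    rw [hg2, k2] at c2
    rw [hg1, k1] at c1
    rw [hg0, k0] at c0
    norm_num at c3 c2 c1 c0
    exact hc.exc c hc0 ⟨c3, c2, c1, c0.symm⟩
  have cy : ∀ (v : V) (G : F[X]), G.Monic → G.natDegree = 4 → (⊤ ≤ Submodule.span F (Set.range fun i : Fin G.natDegree =>
      (A ^ (i : ℕ)) v)) → aeval A G v = 0 → G.coeff 0 = 1 → Dec A (kt f3 f2 f1) (kt g3 g2 g1) := by
    intro v G hGm hGd hs h0 hG0
    obtain ⟨a, b, Y, ha, hb, hY, heq⟩ := hc.cyc (-G.coeff 3)
    rw [hGd] at hs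
    refine cyc_sc (k := 2) hV A (v := v) hGm hGd hs h0 hfm hfi hfd hgm hgi hgd
      (by rw [hG0, hf0, hg0]; norm_num) ha hb hY ?_
    rw [hG b hb, hf3, hf0]
    push_cast
    linear_combination heq
  rcases dich A with ⟨q, hq, hqi, hq3, hqk⟩ | ⟨v1, v2, e1, e2, he1, he2, hle, hsum, hs, ha1, ha2, hd⟩
  · have hq1 : q.natDegree = 1 := by
      have := hqi.natDegree_pos
      omega
    obtain ⟨c, hcq⟩ : ∃ c, q = X - C c := ⟨-q.coeff 0, by
      rw [C_neg, sub_neg_eq_add]
      exact hq.eq_X_add_C hq1⟩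
    exact rk c ((by norm_num : 2 ≤ 3).trans (hqk c hcq))
  · have hdet' : e1.coeff 0 * e2.coeff 0 = 1 := by
      rw [hsum, hV, hdet] at hd
      linear_combination -hd
    have hcase : e1.natDegree = 0 ∨ e1.natDegree = 1 ∨ e1.natDegree = 2 := by omega
    have h10 : e1.coeff 0 ≠ 0 := by
      intro h
      rw [h, zero_mul] at hdet'
      exact one_ne_zero hdet'.symm
    rcases hcase with h | h | h
    · have h2 : e2.natDegree = 4 := by omega
      have hg1' : e1 = 1 := he1.natDegree_eq_zero.1 h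
      rw [h] at hs
      rw [hg1', coeff_one_zero, one_mul] at hdet'
      refine cy v2 e2 he2 h2 (hs.trans (Submodule.span_mono ?_)) ha2 hdet'
      refine Set.union_subset ?_ ?_
      · rintro _ ⟨i, rfl⟩; exact i.elim0
      · rintro _ ⟨i, rfl⟩; exact ⟨i, rfl⟩
    · have h2 : e2.natDegree = 3 := by omega
      rw [h, h2] at hs
      obtain ⟨a, b, Y, ha, hb, hY, hYk, heq⟩ := hc.one (-e1.coeff 0) (-e2.coeff 2) (neg_ne_zero.2 h10)
      refine two_sc (ρ := 0) (σ := 0) hV A (v := v2) (w := v1) he2 h2 he1 h hs ha2 ha1 hfm hfi hfd hgm hgi hgd h10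
        (by rw [hdet', hf0, hg0]; norm_num) ha hb hY ?_ ?_ ?_
      · intro h5
        apply mul_ne_zero (mul_ne_zero ha hb) (neg_ne_zero.2 h10)
        push_cast at h5
        linear_combination h5
      · intro h5
        apply hYk
        rw [h5]
        push_cast
        ring
      · rw [hG b hb, hf0]
        change _ * (Y * (_ + a * (kt f3 f2 f1).coeff 3 - _ - _)) = _
        rw [hf3]
        push_cast
        linear_combination heq
    · have h2 : e2.natDegree = 2 := by omega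
      have q1 := quad_form he1 h
      have q2 := quad_form he2 h2
      have hs4 : ⊤ ≤ Submodule.span F (Set.range ![v1, A v1, v2, A v2]) := by
        rw [h, h2] at hs
        refine hs.trans (Submodule.span_mono (Set.union_subset ?_ ?_))
        · rintro _ ⟨i, rfl⟩
          fin_cases i
          · exact ⟨0, by simp⟩
          · exact ⟨1, by simp⟩
        · rintro _ ⟨i, rfl⟩
          fin_cases i
          · exact ⟨2, by simp⟩
          · exact ⟨3, by simp⟩
      have ex : ∀ (e : F[X]) (v : V), e = X ^ 2 + C (e.coeff 1) * X + C (e.coeff 0) → aeval A e v = 0 →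
          A (A v) + e.coeff 1 • A v + e.coeff 0 • v = 0 := by
        intro e v he h6
        rw [he] at h6
        simpa only [map_add, map_mul, map_pow, aeval_X, aeval_C, LinearMap.add_apply, Module.End.mul_apply,
          Algebra.algebraMap_eq_smul_one, LinearMap.smul_apply, Module.End.one_apply, pow_two] using h6
      by_cases hr : ∃ k, e1.IsRoot k ∧ e2.IsRoot k
      · -- a common root
        obtain ⟨k, hk1, hk2⟩ := hr
        refine rk k ?_
        have w1 := ex e1 v1 q1 ha1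
        have w2 := ex e2 v2 q2 ha2
        rw [IsRoot.def, q1] at hk1
        rw [IsRoot.def, q2] at hk2
        simp only [eval_add, eval_pow, eval_X, eval_mul, eval_C] at hk1 hk2
        refine two_le_ker hV (c1 := e1.coeff 1 + k) (c2 := e2.coeff 1 + k) ?_ ?_ hs4
        · rw [map_add, map_smul, ← sub_eq_zero, ← w1]
          have : e1.coeff 0 = -(k ^ 2 + e1.coeff 1 * k) := by linear_combination hk1
          rw [this]
          module
        · rw [map_add, map_smul, ← sub_eq_zero, ← w2]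
          have : e2.coeff 0 = -(k ^ 2 + e2.coeff 1 * k) := by linear_combination hk2
          rw [this]
          module
      by_cases hee : e1 = e2
      · subst hee
        refine two_eq hV (v1 := v1) (v2 := v2) (t := -e1.coeff 1) (d := e1.coeff 0) ?_ ?_ ?_ hfi hgi
          (hc.two _ _ (by rw [sq]; exact hdet') ?_)
        · rw [← sub_eq_zero, ← ex e1 v1 q1 ha1]
          module
        · rw [← sub_eq_zero, ← ex e1 v2 q1 ha2]
          module
        · exact hs4
        · intro x hx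
          apply hr
          refine ⟨x, ?_, ?_⟩ <;>
          · rw [IsRoot.def, q1]
            simp only [eval_add, eval_pow, eval_X, eval_mul, eval_C]
            linear_combination hx
      · -- coprime
        have hco : IsCoprime e1 e2 := coprime_of he1 he2 h h2 hee hr
        obtain ⟨s1, s2⟩ := cyc_of_coprime he1 he2 hco ha1 ha2 hs
        exact cy (v1 + v2) (e1 * e2) (he1.mul he2) (by rw [he1.natDegree_mul he2, h, h2]) s1 s2
          (by rw [mul_coeff_zero]; exact hdet')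

end Cfsg.Agent.H46.TL
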