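import Cfsg.Agent.H46.TL.Four

/-!
# Irreducibility checks in degrees 4 and 5
-/

set_option autoImplicit false
set_option linter.unusedSimpArgs false

namespace Cfsg.Agent.H46.TL

open Polynomial Cfsg.Agent.H962.PP Module

universe u

variable {F : Type u} [Field F]

theorem cub_form {e : F[X]} (he : e.Monic) (hd : e.natDegree = 3) :
    e = X ^ 3 + C (e.coeff 2) * X ^ 2 + C (e.coeff 1) * X + C (e.coeff 0) := by
  conv_lhs => rw [e.as_sum_range_C_mul_X_pow, hd, Finset.sum_range_succ, Finset.sum_range_succ, Finset.sum_range_succ,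
    Finset.sum_range_succ, Finset.sum_range_zero]
  have h1 : e.coeff 3 = 1 := by rw [← hd]; exact he.coeff_natDegree
  rw [h1]
  simp only [map_one, pow_zero, mul_one, zero_add, pow_one, one_mul]
  ring

theorem gk_coeff (a b c d : F) : (X ^ 4 + C a * X ^ 3 + C b * X ^ 2 + C c * X + C d).coeff 3 = a ∧
    (X ^ 4 + C a * X ^ 3 + C b * X ^ 2 + C c * X + C d).coeff 2 = b ∧
    (X ^ 4 + C a * X ^ 3 + C b * X ^ 2 + C c * X + C d).coeff 1 = c ∧
    (X ^ 4 + C a * X ^ 3 + C b * X ^ 2 + C c * X + C d).coeff 0 = d := by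
  refine ⟨?_, ?_, ?_, ?_⟩ <;> simp [coeff_X, coeff_one, coeff_C]

theorem kt_irr {a b c : F} (h1 : ∀ x : F, x ^ 4 + a * x ^ 3 + b * x ^ 2 + c * x + 1 ≠ 0)
    (h2 : ∀ p q : F, ¬ (p * (b - q - p * (a - p)) + q * (a - p) = c ∧ q * (b - q - p * (a - p)) = 1)) :
    Irreducible (kt a b c) := by
  have hm := kt_monic a b c
  have hd := kt_natDegree a b c
  rw [hm.irreducible_iff_lt_natDegree_lt (by intro h; rw [h, natDegree_one] at hd; norm_num at hd)]
  intro q hq hqd hqf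
  rw [Finset.mem_Ioc, hd] at hqd
  rcases (show q.natDegree = 1 ∨ q.natDegree = 2 by omega) with h | h
  · obtain ⟨k, hk⟩ := exists_root_of_degree_eq_one (degree_eq_iff_natDegree_eq_of_pos (by norm_num) |>.2 h)
    have h3 := hk.dvd hqf
    rw [IsRoot.def, kt_eval] at h3
    exact h1 k h3
  · obtain ⟨r, hr⟩ := hqf
    have hrm : r.Monic := hq.of_mul_monic_left (by rw [← hr]; exact hm)
    have hrd : r.natDegree = 2 := by
      have := hq.natDegree_mul hrm
      rw [← hr, hd, h] at this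
      omega
    have q1 := quad_form hq h
    have q2 := quad_form hrm hrd
    obtain ⟨k3, k2, k1, k0⟩ := kt_coeff a b c
    have e1 : kt a b c = X ^ 4 + C (q.coeff 1 + r.coeff 1) * X ^ 3 + C (q.coeff 0 + q.coeff 1 * r.coeff 1 + r.coeff 0) * X ^ 2 +
        C (q.coeff 1 * r.coeff 0 + q.coeff 0 * r.coeff 1) * X + C (q.coeff 0 * r.coeff 0) := by
      conv_lhs => rw [hr, q1, q2]
      simp only [C_add, C_mul]
      ring
    obtain ⟨m3, m2, m1, m0⟩ := gk_coeff (q.coeff 1 + r.coeff 1) (q.coeff 0 + q.coeff 1 * r.coeff 1 + r.coeff 0)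
      (q.coeff 1 * r.coeff 0 + q.coeff 0 * r.coeff 1) (q.coeff 0 * r.coeff 0)
    rw [e1] at k3 k2 k1 k0
    rw [m3] at k3
    rw [m2] at k2
    rw [m1] at k1
    rw [m0] at k0
    apply h2 (q.coeff 1) (q.coeff 0)
    have hr1 : a - q.coeff 1 = r.coeff 1 := by rw [← k3]; ring
    rw [hr1]
    have hr0 : b - q.coeff 0 - q.coeff 1 * r.coeff 1 = r.coeff 0 := by rw [← k2]; ring
    rw [hr0]
    exact ⟨k1, k0⟩

theorem qt_irr {a b c d : F} (h1 : ∀ x : F, x ^ 5 + a * x ^ 4 + b * x ^ 3 + c * x ^ 2 + d * x + -1 ≠ 0)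
    (h2 : ∀ p q : F, ¬ (p * (c - q * (a - p) - p * (b - q - p * (a - p))) + q * (b - q - p * (a - p)) = d ∧
      q * (c - q * (a - p) - p * (b - q - p * (a - p))) = -1)) :
    Irreducible (qt a b c d (-1)) := by
  have hm := qt_monic a b c d (-1)
  have hd := qt_natDegree a b c d (-1)
  rw [hm.irreducible_iff_lt_natDegree_lt (by intro h; rw [h, natDegree_one] at hd; norm_num at hd)]
  intro q hq hqd hqf
  rw [Finset.mem_Ioc, hd] at hqd
  rcases (show q.natDegree = 1 ∨ q.natDegree = 2 by omega) with h | h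
  · obtain ⟨k, hk⟩ := exists_root_of_degree_eq_one (degree_eq_iff_natDegree_eq_of_pos (by norm_num) |>.2 h)
    have h3 := hk.dvd hqf
    rw [IsRoot.def, qt_eval] at h3
    exact h1 k h3
  · obtain ⟨r, hr⟩ := hqf
    have hrm : r.Monic := hq.of_mul_monic_left (by rw [← hr]; exact hm)
    have hrd : r.natDegree = 3 := by
      have := hq.natDegree_mul hrm
      rw [← hr, hd, h] at this
      omega
    have q1 := quad_form hq h
    have q2 := cub_form hrm hrd
    have k4 := qt_four a b c d (-1)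
    have k0 := qt_zero a b c d (-1)
    obtain ⟨k3, k2, k1⟩ := qt_coeff a b c d (-1)
    have e1 : qt a b c d (-1) = X ^ 5 + C (q.coeff 1 + r.coeff 2) * X ^ 4 +
        C (q.coeff 0 + q.coeff 1 * r.coeff 2 + r.coeff 1) * X ^ 3 +
        C (q.coeff 0 * r.coeff 2 + q.coeff 1 * r.coeff 1 + r.coeff 0) * X ^ 2 +
        C (q.coeff 1 * r.coeff 0 + q.coeff 0 * r.coeff 1) * X + C (q.coeff 0 * r.coeff 0) := by
      conv_lhs => rw [hr, q1, q2]
      simp only [C_add, C_mul]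
      ring
    have m4 := qt_four (q.coeff 1 + r.coeff 2) (q.coeff 0 + q.coeff 1 * r.coeff 2 + r.coeff 1)
      (q.coeff 0 * r.coeff 2 + q.coeff 1 * r.coeff 1 + r.coeff 0)
      (q.coeff 1 * r.coeff 0 + q.coeff 0 * r.coeff 1) (q.coeff 0 * r.coeff 0)
    have m0 := qt_zero (q.coeff 1 + r.coeff 2) (q.coeff 0 + q.coeff 1 * r.coeff 2 + r.coeff 1)
      (q.coeff 0 * r.coeff 2 + q.coeff 1 * r.coeff 1 + r.coeff 0)
      (q.coeff 1 * r.coeff 0 + q.coeff 0 * r.coeff 1) (q.coeff 0 * r.coeff 0)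
    obtain ⟨m3, m2, m1⟩ := qt_coeff (q.coeff 1 + r.coeff 2) (q.coeff 0 + q.coeff 1 * r.coeff 2 + r.coeff 1)
      (q.coeff 0 * r.coeff 2 + q.coeff 1 * r.coeff 1 + r.coeff 0)
      (q.coeff 1 * r.coeff 0 + q.coeff 0 * r.coeff 1) (q.coeff 0 * r.coeff 0)
    rw [qt] at m4 m3 m2 m1 m0
    rw [e1] at k4 k3 k2 k1 k0
    rw [m4] at k4
    rw [m3] at k3
    rw [m2] at k2
    rw [m1] at k1
    rw [m0] at k0
    apply h2 (q.coeff 1) (q.coeff 0)
    have hr2 : a - q.coeff 1 = r.coeff 2 := by rw [← k4]; ring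
    rw [hr2]
    have hr1 : b - q.coeff 0 - q.coeff 1 * r.coeff 2 = r.coeff 1 := by rw [← k3]; ring
    rw [hr1]
    have hr0 : c - q.coeff 0 * r.coeff 2 - q.coeff 1 * r.coeff 1 = r.coeff 0 := by rw [← k2]; ring
    rw [hr0]
    exact ⟨k1, k0⟩

end Cfsg.Agent.H46.TL
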