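import Cfsg.Agent.H46.TL.Ord

/-!
# The fixed pairs over the field with 5 elements
-/

set_option autoImplicit false
set_option maxRecDepth 100000
set_option maxHeartbeats 0

namespace Cfsg.Agent.H46.TL.QFive

open Matrix Cfsg.Agent.H962.PP

instance fact : Fact (Nat.Prime 5) := ⟨by norm_num⟩

def M : Matrix (Fin 4) (Fin 4) (ZMod 5) := !![0, 0, 0, 4; 1, 0, 0, 3; 0, 1, 0, 4; 0, 0, 1, 3]
def M2 : Matrix (Fin 4) (Fin 4) (ZMod 5) := !![0, 0, 4, 2; 0, 0, 3, 3; 1, 0, 4, 0; 0, 1, 3, 3]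
def M4 : Matrix (Fin 4) (Fin 4) (ZMod 5) := !![4, 2, 2, 1; 3, 3, 1, 4; 4, 0, 0, 2; 3, 3, 4, 2]
def M8 : Matrix (Fin 4) (Fin 4) (ZMod 5) := !![3, 2, 4, 3; 2, 2, 0, 0; 2, 4, 1, 3; 3, 1, 2, 2]
def M12 : Matrix (Fin 4) (Fin 4) (ZMod 5) := !![3, 1, 0, 0; 4, 0, 1, 0; 3, 0, 0, 1; 4, 0, 0, 0]
theorem M_pow : M ^ 13 = 1 := by
  have e1 : M ^ 1 = M := pow_one _
  have e2 : M ^ 2 = M2 := (pow_add M 1 1).trans (by rw [e1]; decide +kernel)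
  have e4 : M ^ 4 = M4 := (pow_add M 2 2).trans (by rw [e2]; decide +kernel)
  have e8 : M ^ 8 = M8 := (pow_add M 4 4).trans (by rw [e4]; decide +kernel)
  have e12 : M ^ 12 = M12 := (pow_add M 8 4).trans (by rw [e8, e4]; decide +kernel)
  have e13 : M ^ 13 = 1 := (pow_add M 12 1).trans (by rw [e12, e1]; decide +kernel)
  exact e13

def N : Matrix (Fin 4) (Fin 4) (ZMod 5) := !![0, 0, 0, 4; 1, 0, 0, 2; 0, 1, 0, 0; 0, 0, 1, 2]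
def N2 : Matrix (Fin 4) (Fin 4) (ZMod 5) := !![0, 0, 4, 3; 0, 0, 2, 3; 1, 0, 0, 2; 0, 1, 2, 4]
def N4 : Matrix (Fin 4) (Fin 4) (ZMod 5) := !![4, 3, 1, 0; 2, 3, 1, 1; 0, 2, 3, 1; 2, 4, 0, 3]
def N8 : Matrix (Fin 4) (Fin 4) (ZMod 5) := !![2, 3, 0, 4; 1, 1, 3, 2; 1, 1, 1, 3; 2, 0, 1, 3]
def N12 : Matrix (Fin 4) (Fin 4) (ZMod 5) := !![2, 1, 0, 0; 0, 0, 1, 0; 2, 0, 0, 1; 4, 0, 0, 0]
theorem N_pow : N ^ 13 = 1 := by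
  have e1 : N ^ 1 = N := pow_one _
  have e2 : N ^ 2 = N2 := (pow_add N 1 1).trans (by rw [e1]; decide +kernel)
  have e4 : N ^ 4 = N4 := (pow_add N 2 2).trans (by rw [e2]; decide +kernel)
  have e8 : N ^ 8 = N8 := (pow_add N 4 4).trans (by rw [e4]; decide +kernel)
  have e12 : N ^ 12 = N12 := (pow_add N 8 4).trans (by rw [e8, e4]; decide +kernel)
  have e13 : N ^ 13 = 1 := (pow_add N 12 1).trans (by rw [e12, e1]; decide +kernel)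
  exact e13

theorem irr_f : Irreducible (kt (2 : ZMod 5) 1 2) :=
  kt_irr (by decide +kernel) (by decide +kernel)

theorem irr_g : Irreducible (kt (3 : ZMod 5) 0 3) :=
  kt_irr (by decide +kernel) (by decide +kernel)

theorem sp0 : ∃ X Y : Matrix (Fin 4) (Fin 4) (ZMod 5), Y * X = BB (1 : ZMod 5) 1 ∧
    (∀ j, (X ^ 4 + (2 : ZMod 5) • X ^ 3 + (1 : ZMod 5) • X ^ 2 + (2 : ZMod 5) • X + 1 : Matrix (Fin 4) (Fin 4) (ZMod 5)) j 0 = 0) ∧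
    (∀ j, (Y ^ 4 + (3 : ZMod 5) • Y ^ 3 + (0 : ZMod 5) • Y ^ 2 + (3 : ZMod 5) • Y + 1 : Matrix (Fin 4) (Fin 4) (ZMod 5)) j 0 = 0) :=
  ⟨!![2, 4, 0, 4; 1, 2, 1, 1; 1, 0, 4, 1; 1, 1, 0, 0], !![2, 1, 1, 4; 0, 0, 0, 1; 0, 2, 2, 1; 2, 2, 1, 3], by decide +kernel, by decide +kernel, by decide +kernel⟩

theorem sp1 : ∃ X Y : Matrix (Fin 4) (Fin 4) (ZMod 5), Y * X = BB (4 : ZMod 5) 1 ∧
    (∀ j, (X ^ 4 + (2 : ZMod 5) • X ^ 3 + (1 : ZMod 5) • X ^ 2 + (2 : ZMod 5) • X + 1 : Matrix (Fin 4) (Fin 4) (ZMod 5)) j 0 = 0) ∧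
    (∀ j, (Y ^ 4 + (3 : ZMod 5) • Y ^ 3 + (0 : ZMod 5) • Y ^ 2 + (3 : ZMod 5) • Y + 1 : Matrix (Fin 4) (Fin 4) (ZMod 5)) j 0 = 0) :=
  ⟨!![3, 2, 2, 0; 4, 2, 1, 3; 0, 1, 3, 4; 3, 2, 0, 0], !![0, 1, 3, 2; 0, 0, 0, 2; 1, 1, 4, 1; 4, 1, 4, 3], by decide +kernel, by decide +kernel, by decide +kernel⟩

theorem sp2 : ∃ X Y : Matrix (Fin 4) (Fin 4) (ZMod 5), Y * X = BB (2 : ZMod 5) 4 ∧
    (∀ j, (X ^ 4 + (2 : ZMod 5) • X ^ 3 + (1 : ZMod 5) • X ^ 2 + (2 : ZMod 5) • X + 1 : Matrix (Fin 4) (Fin 4) (ZMod 5)) j 0 = 0) ∧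
    (∀ j, (Y ^ 4 + (3 : ZMod 5) • Y ^ 3 + (0 : ZMod 5) • Y ^ 2 + (3 : ZMod 5) • Y + 1 : Matrix (Fin 4) (Fin 4) (ZMod 5)) j 0 = 0) :=
  ⟨!![0, 1, 3, 0; 4, 4, 3, 1; 1, 2, 1, 4; 3, 0, 0, 3], !![4, 2, 2, 0; 2, 4, 2, 1; 1, 0, 2, 1; 1, 1, 0, 2], by decide +kernel, by decide +kernel, by decide +kernel⟩

theorem sp3 : ∃ X Y : Matrix (Fin 4) (Fin 4) (ZMod 5), Y * X = BB (3 : ZMod 5) 4 ∧
    (∀ j, (X ^ 4 + (2 : ZMod 5) • X ^ 3 + (1 : ZMod 5) • X ^ 2 + (2 : ZMod 5) • X + 1 : Matrix (Fin 4) (Fin 4) (ZMod 5)) j 0 = 0) ∧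
    (∀ j, (Y ^ 4 + (3 : ZMod 5) • Y ^ 3 + (0 : ZMod 5) • Y ^ 2 + (3 : ZMod 5) • Y + 1 : Matrix (Fin 4) (Fin 4) (ZMod 5)) j 0 = 0) :=
  ⟨!![0, 4, 4, 3; 2, 1, 3, 3; 4, 0, 4, 1; 2, 2, 2, 3], !![0, 0, 1, 3; 2, 1, 0, 2; 2, 2, 4, 0; 1, 2, 3, 2], by decide +kernel, by decide +kernel, by decide +kernel⟩

theorem sp_cases : ∀ t d : ZMod 5, d ^ 2 = 1 → (∀ x : ZMod 5, x ^ 2 - t * x + d ≠ 0) →
    (t = 1 ∧ d = 1) ∨ (t = 4 ∧ d = 1) ∨ (t = 2 ∧ d = 4) ∨ (t = 3 ∧ d = 4) := by decide +kernel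

theorem cyc4 : ∀ t : ZMod 5, ∃ a : ZMod 5, a ≠ 0 ∧ ∃ b : ZMod 5, b ≠ 0 ∧ ∃ Y : ZMod 5, Y ≠ 1 ∧
    Y * (a * 2 - 2 + a * b * t - Y) = a ^ 4 * G4 3 0 3 b := by decide +kernel

theorem one4 : ∀ k : ZMod 5, k ≠ 0 → ∀ t : ZMod 5, ∃ a : ZMod 5, a ≠ 0 ∧ ∃ b : ZMod 5, b ≠ 0 ∧ ∃ Y : ZMod 5, Y ≠ 1 ∧ Y ≠ a * b * k ∧
    (a * b * k) * (Y * (a * 2 - 1 + a * b * t - Y)) = a ^ 4 * G4 3 0 3 b := by decide +kernel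

theorem chk4 : Chk4 (ZMod 5) 2 1 2 3 0 3 where
  cyc := fun t => by
    obtain ⟨a, ha, b, hb, Y, hY, h⟩ := cyc4 t
    exact ⟨a, b, Y, ha, hb, hY, h⟩
  one := fun k t hk => by
    obtain ⟨a, ha, b, hb, Y, hY, hYk, h⟩ := one4 k hk t
    exact ⟨a, b, Y, ha, hb, hY, hYk, h⟩
  two := fun t d hd hx => by
    rcases sp_cases t d hd hx with ⟨rfl, rfl⟩ | ⟨rfl, rfl⟩ | ⟨rfl, rfl⟩ | ⟨rfl, rfl⟩
    · exact sp0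
    · exact sp1
    · exact sp2
    · exact sp3
  exc := by decide +kernel

theorem irr_p : Irreducible (qt (2 : ZMod 5) 2 3 4 (-1)) :=
  qt_irr (by decide +kernel) (by decide +kernel)

theorem irr_h : Irreducible (qt (0 : ZMod 5) 4 0 3 (-1)) :=
  qt_irr (by decide +kernel) (by decide +kernel)

theorem cyc5 : ∀ t : ZMod 5, ∃ a : ZMod 5, a ≠ 0 ∧ ∃ b : ZMod 5, b ≠ 0 ∧ ∃ Y : ZMod 5, Y ≠ 1 ∧
    Y * (a * 2 - 3 + a * b * t - Y) + a ^ 5 * G5 0 4 0 3 b = 0 := by decide +kernel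

theorem one5 : ∀ k : ZMod 5, k ≠ 0 → ∀ t : ZMod 5, ∃ a : ZMod 5, a ≠ 0 ∧ ∃ b : ZMod 5, b ≠ 0 ∧ ∃ Y : ZMod 5, Y ≠ 1 ∧ Y ≠ a * b * k ∧
    (a * b * k) * (Y * (a * 2 - 2 + a * b * t - Y)) + a ^ 5 * G5 0 4 0 3 b = 0 := by decide +kernel

theorem two5 : ∀ s t : ZMod 5, ∃ a : ZMod 5, a ≠ 0 ∧ ∃ b : ZMod 5, b ≠ 0 ∧ a * b * s ≠ 1 ∧ ∃ Y : ZMod 5, Y ≠ 1 ∧ Y ≠ a * b * s - 1 ∧
    (a * b * s - 1) * (Y * (a * 2 - 1 + a * b * t - Y)) + a ^ 5 * G5 0 4 0 3 b = 0 := by decide +kernel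

theorem chk5 : Chk5 (ZMod 5) 2 2 3 4 0 4 0 3 where
  cyc := fun t => by
    obtain ⟨a, ha, b, hb, Y, hY, h⟩ := cyc5 t
    exact ⟨a, b, Y, ha, hb, hY, h⟩
  one := fun k t hk => by
    obtain ⟨a, ha, b, hb, Y, hY, hYk, h⟩ := one5 k hk t
    exact ⟨a, b, Y, ha, hb, hY, hYk, h⟩
  two := fun s t => by
    obtain ⟨a, ha, b, hb, hs, Y, hY, hYk, h⟩ := two5 s t
    exact ⟨a, b, Y, ha, hb, hY, hs, hYk, h⟩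
  exc := by decide +kernel

theorem four : ∃ c d : SpecialLinearGroup (Fin 4) (ZMod 5), Pr 4 (ZMod 5) c d :=
  four_pr (M := M) (N := N) chk4 irr_f irr_g (by rw [(Nat.card_zmod 5)]; norm_num) (by decide +kernel) (by decide +kernel)
    M_pow N_pow (by norm_num) (by norm_num)

theorem five : ∃ c d : SpecialLinearGroup (Fin 5) (ZMod 5), Pr 5 (ZMod 5) c d :=
  five_pr chk5 irr_p irr_h (q := 5) (N := 781) (Nat.card_zmod 5) (by norm_num) (by norm_num)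

end Cfsg.Agent.H46.TL.QFive
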