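import Cfsg.Agent.H46.TL.Ord

/-!
# The fixed pairs over the field with 7 elements
-/

set_option autoImplicit false
set_option maxRecDepth 100000
set_option maxHeartbeats 0

namespace Cfsg.Agent.H46.TL.QSeven

open Matrix Cfsg.Agent.H962.PP

instance fact : Fact (Nat.Prime 7) := ⟨by norm_num⟩

def M : Matrix (Fin 4) (Fin 4) (ZMod 7) := !![0, 0, 0, 6; 1, 0, 0, 6; 0, 1, 0, 6; 0, 0, 1, 6]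
def M2 : Matrix (Fin 4) (Fin 4) (ZMod 7) := !![0, 0, 6, 1; 0, 0, 6, 0; 1, 0, 6, 0; 0, 1, 6, 0]
def M4 : Matrix (Fin 4) (Fin 4) (ZMod 7) := !![6, 1, 0, 0; 6, 0, 1, 0; 6, 0, 0, 1; 6, 0, 0, 0]
theorem M_pow : M ^ 5 = 1 := by
  have e1 : M ^ 1 = M := pow_one _
  have e2 : M ^ 2 = M2 := (pow_add M 1 1).trans (by rw [e1]; decide +kernel)
  have e4 : M ^ 4 = M4 := (pow_add M 2 2).trans (by rw [e2]; decide +kernel)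
  have e5 : M ^ 5 = 1 := (pow_add M 4 1).trans (by rw [e4, e1]; decide +kernel)
  exact e5

def N : Matrix (Fin 4) (Fin 4) (ZMod 7) := !![0, 0, 0, 6; 1, 0, 0, 3; 0, 1, 0, 0; 0, 0, 1, 3]
def N2 : Matrix (Fin 4) (Fin 4) (ZMod 7) := !![0, 0, 6, 4; 0, 0, 3, 1; 1, 0, 0, 3; 0, 1, 3, 2]
def N4 : Matrix (Fin 4) (Fin 4) (ZMod 7) := !![6, 4, 5, 5; 3, 1, 3, 4; 0, 3, 1, 3; 3, 2, 2, 0]
def N8 : Matrix (Fin 4) (Fin 4) (ZMod 7) := !![0, 4, 1, 5; 5, 2, 1, 0; 4, 5, 2, 1; 3, 6, 2, 1]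
def N16 : Matrix (Fin 4) (Fin 4) (ZMod 7) := !![4, 1, 2, 6; 0, 1, 2, 5; 1, 0, 1, 2; 6, 5, 1, 4]
def N24 : Matrix (Fin 4) (Fin 4) (ZMod 7) := !![3, 1, 0, 0; 0, 0, 1, 0; 3, 0, 0, 1; 6, 0, 0, 0]
theorem N_pow : N ^ 25 = 1 := by
  have e1 : N ^ 1 = N := pow_one _
  have e2 : N ^ 2 = N2 := (pow_add N 1 1).trans (by rw [e1]; decide +kernel)
  have e4 : N ^ 4 = N4 := (pow_add N 2 2).trans (by rw [e2]; decide +kernel)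
  have e8 : N ^ 8 = N8 := (pow_add N 4 4).trans (by rw [e4]; decide +kernel)
  have e16 : N ^ 16 = N16 := (pow_add N 8 8).trans (by rw [e8]; decide +kernel)
  have e24 : N ^ 24 = N24 := (pow_add N 16 8).trans (by rw [e16, e8]; decide +kernel)
  have e25 : N ^ 25 = 1 := (pow_add N 24 1).trans (by rw [e24, e1]; decide +kernel)
  exact e25

theorem irr_f : Irreducible (kt (1 : ZMod 7) 1 1) :=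
  kt_irr (by decide +kernel) (by decide +kernel)

theorem irr_g : Irreducible (kt (4 : ZMod 7) 0 4) :=
  kt_irr (by decide +kernel) (by decide +kernel)

theorem sp0 : ∃ X Y : Matrix (Fin 4) (Fin 4) (ZMod 7), Y * X = BB (0 : ZMod 7) 1 ∧
    (∀ j, (X ^ 4 + (1 : ZMod 7) • X ^ 3 + (1 : ZMod 7) • X ^ 2 + (1 : ZMod 7) • X + 1 : Matrix (Fin 4) (Fin 4) (ZMod 7)) j 0 = 0) ∧
    (∀ j, (Y ^ 4 + (4 : ZMod 7) • Y ^ 3 + (0 : ZMod 7) • Y ^ 2 + (4 : ZMod 7) • Y + 1 : Matrix (Fin 4) (Fin 4) (ZMod 7)) j 0 = 0) :=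
  ⟨!![0, 5, 6, 0; 1, 4, 6, 1; 1, 3, 2, 6; 3, 5, 6, 0], !![2, 4, 4, 2; 2, 0, 0, 5; 5, 3, 4, 0; 3, 1, 1, 4], by decide +kernel, by decide +kernel, by decide +kernel⟩

theorem sp1 : ∃ X Y : Matrix (Fin 4) (Fin 4) (ZMod 7), Y * X = BB (3 : ZMod 7) 1 ∧
    (∀ j, (X ^ 4 + (1 : ZMod 7) • X ^ 3 + (1 : ZMod 7) • X ^ 2 + (1 : ZMod 7) • X + 1 : Matrix (Fin 4) (Fin 4) (ZMod 7)) j 0 = 0) ∧
    (∀ j, (Y ^ 4 + (4 : ZMod 7) • Y ^ 3 + (0 : ZMod 7) • Y ^ 2 + (4 : ZMod 7) • Y + 1 : Matrix (Fin 4) (Fin 4) (ZMod 7)) j 0 = 0) :=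
  ⟨!![3, 1, 0, 0; 2, 4, 6, 2; 6, 4, 0, 0; 2, 3, 0, 6], !![1, 0, 3, 0; 0, 0, 6, 0; 4, 0, 0, 1; 3, 6, 4, 2], by decide +kernel, by decide +kernel, by decide +kernel⟩

theorem sp2 : ∃ X Y : Matrix (Fin 4) (Fin 4) (ZMod 7), Y * X = BB (4 : ZMod 7) 1 ∧
    (∀ j, (X ^ 4 + (1 : ZMod 7) • X ^ 3 + (1 : ZMod 7) • X ^ 2 + (1 : ZMod 7) • X + 1 : Matrix (Fin 4) (Fin 4) (ZMod 7)) j 0 = 0) ∧
    (∀ j, (Y ^ 4 + (4 : ZMod 7) • Y ^ 3 + (0 : ZMod 7) • Y ^ 2 + (4 : ZMod 7) • Y + 1 : Matrix (Fin 4) (Fin 4) (ZMod 7)) j 0 = 0) :=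
  ⟨!![3, 6, 4, 1; 4, 0, 1, 0; 4, 2, 5, 3; 0, 5, 4, 5], !![4, 4, 0, 2; 3, 1, 4, 4; 1, 4, 4, 0; 4, 1, 3, 1], by decide +kernel, by decide +kernel, by decide +kernel⟩

theorem sp3 : ∃ X Y : Matrix (Fin 4) (Fin 4) (ZMod 7), Y * X = BB (1 : ZMod 7) 6 ∧
    (∀ j, (X ^ 4 + (1 : ZMod 7) • X ^ 3 + (1 : ZMod 7) • X ^ 2 + (1 : ZMod 7) • X + 1 : Matrix (Fin 4) (Fin 4) (ZMod 7)) j 0 = 0) ∧
    (∀ j, (Y ^ 4 + (4 : ZMod 7) • Y ^ 3 + (0 : ZMod 7) • Y ^ 2 + (4 : ZMod 7) • Y + 1 : Matrix (Fin 4) (Fin 4) (ZMod 7)) j 0 = 0) :=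
  ⟨!![6, 2, 4, 4; 0, 4, 5, 4; 0, 6, 1, 6; 2, 3, 2, 2], !![4, 1, 3, 2; 2, 3, 2, 5; 3, 3, 5, 5; 3, 0, 0, 5], by decide +kernel, by decide +kernel, by decide +kernel⟩

theorem sp4 : ∃ X Y : Matrix (Fin 4) (Fin 4) (ZMod 7), Y * X = BB (3 : ZMod 7) 6 ∧
    (∀ j, (X ^ 4 + (1 : ZMod 7) • X ^ 3 + (1 : ZMod 7) • X ^ 2 + (1 : ZMod 7) • X + 1 : Matrix (Fin 4) (Fin 4) (ZMod 7)) j 0 = 0) ∧
    (∀ j, (Y ^ 4 + (4 : ZMod 7) • Y ^ 3 + (0 : ZMod 7) • Y ^ 2 + (4 : ZMod 7) • Y + 1 : Matrix (Fin 4) (Fin 4) (ZMod 7)) j 0 = 0) :=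
  ⟨!![0, 2, 0, 4; 2, 0, 2, 1; 2, 0, 1, 3; 6, 0, 6, 5], !![4, 3, 0, 6; 5, 0, 1, 1; 0, 2, 0, 4; 0, 4, 6, 6], by decide +kernel, by decide +kernel, by decide +kernel⟩

theorem sp5 : ∃ X Y : Matrix (Fin 4) (Fin 4) (ZMod 7), Y * X = BB (4 : ZMod 7) 6 ∧
    (∀ j, (X ^ 4 + (1 : ZMod 7) • X ^ 3 + (1 : ZMod 7) • X ^ 2 + (1 : ZMod 7) • X + 1 : Matrix (Fin 4) (Fin 4) (ZMod 7)) j 0 = 0) ∧
    (∀ j, (Y ^ 4 + (4 : ZMod 7) • Y ^ 3 + (0 : ZMod 7) • Y ^ 2 + (4 : ZMod 7) • Y + 1 : Matrix (Fin 4) (Fin 4) (ZMod 7)) j 0 = 0) :=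
  ⟨!![0, 0, 2, 2; 6, 4, 3, 0; 0, 2, 1, 1; 1, 6, 0, 1], !![5, 0, 4, 0; 1, 4, 0, 5; 3, 3, 6, 3; 6, 2, 4, 2], by decide +kernel, by decide +kernel, by decide +kernel⟩

theorem sp6 : ∃ X Y : Matrix (Fin 4) (Fin 4) (ZMod 7), Y * X = BB (6 : ZMod 7) 6 ∧
    (∀ j, (X ^ 4 + (1 : ZMod 7) • X ^ 3 + (1 : ZMod 7) • X ^ 2 + (1 : ZMod 7) • X + 1 : Matrix (Fin 4) (Fin 4) (ZMod 7)) j 0 = 0) ∧
    (∀ j, (Y ^ 4 + (4 : ZMod 7) • Y ^ 3 + (0 : ZMod 7) • Y ^ 2 + (4 : ZMod 7) • Y + 1 : Matrix (Fin 4) (Fin 4) (ZMod 7)) j 0 = 0) :=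
  ⟨!![4, 2, 5, 6; 5, 5, 0, 5; 3, 5, 3, 0; 6, 5, 3, 1], !![2, 6, 6, 0; 6, 6, 0, 4; 4, 6, 2, 3; 1, 0, 1, 0], by decide +kernel, by decide +kernel, by decide +kernel⟩

theorem sp_cases : ∀ t d : ZMod 7, d ^ 2 = 1 → (∀ x : ZMod 7, x ^ 2 - t * x + d ≠ 0) →
    (t = 0 ∧ d = 1) ∨ (t = 3 ∧ d = 1) ∨ (t = 4 ∧ d = 1) ∨ (t = 1 ∧ d = 6) ∨ (t = 3 ∧ d = 6) ∨ (t = 4 ∧ d = 6) ∨ (t = 6 ∧ d = 6) := by decide +kernel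

theorem cyc4 : ∀ t : ZMod 7, ∃ a : ZMod 7, a ≠ 0 ∧ ∃ b : ZMod 7, b ≠ 0 ∧ ∃ Y : ZMod 7, Y ≠ 1 ∧
    Y * (a * 1 - 2 + a * b * t - Y) = a ^ 4 * G4 4 0 4 b := by decide +kernel

theorem one4 : ∀ k : ZMod 7, k ≠ 0 → ∀ t : ZMod 7, ∃ a : ZMod 7, a ≠ 0 ∧ ∃ b : ZMod 7, b ≠ 0 ∧ ∃ Y : ZMod 7, Y ≠ 1 ∧ Y ≠ a * b * k ∧
    (a * b * k) * (Y * (a * 1 - 1 + a * b * t - Y)) = a ^ 4 * G4 4 0 4 b := by decide +kernel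

theorem chk4 : Chk4 (ZMod 7) 1 1 1 4 0 4 where
  cyc := fun t => by
    obtain ⟨a, ha, b, hb, Y, hY, h⟩ := cyc4 t
    exact ⟨a, b, Y, ha, hb, hY, h⟩
  one := fun k t hk => by
    obtain ⟨a, ha, b, hb, Y, hY, hYk, h⟩ := one4 k hk t
    exact ⟨a, b, Y, ha, hb, hY, hYk, h⟩
  two := fun t d hd hx => by
    rcases sp_cases t d hd hx with ⟨rfl, rfl⟩ | ⟨rfl, rfl⟩ | ⟨rfl, rfl⟩ | ⟨rfl, rfl⟩ | ⟨rfl, rfl⟩ | ⟨rfl, rfl⟩ | ⟨rfl, rfl⟩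
    · exact sp0
    · exact sp1
    · exact sp2
    · exact sp3
    · exact sp4
    · exact sp5
    · exact sp6
  exc := by decide +kernel

theorem irr_p : Irreducible (qt (0 : ZMod 7) 2 4 3 (-1)) :=
  qt_irr (by decide +kernel) (by decide +kernel)

theorem irr_h : Irreducible (qt (4 : ZMod 7) 6 1 2 (-1)) :=
  qt_irr (by decide +kernel) (by decide +kernel)

theorem cyc5 : ∀ t : ZMod 7, ∃ a : ZMod 7, a ≠ 0 ∧ ∃ b : ZMod 7, b ≠ 0 ∧ ∃ Y : ZMod 7, Y ≠ 1 ∧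
    Y * (a * 0 - 3 + a * b * t - Y) + a ^ 5 * G5 4 6 1 2 b = 0 := by decide +kernel

theorem one5 : ∀ k : ZMod 7, k ≠ 0 → ∀ t : ZMod 7, ∃ a : ZMod 7, a ≠ 0 ∧ ∃ b : ZMod 7, b ≠ 0 ∧ ∃ Y : ZMod 7, Y ≠ 1 ∧ Y ≠ a * b * k ∧
    (a * b * k) * (Y * (a * 0 - 2 + a * b * t - Y)) + a ^ 5 * G5 4 6 1 2 b = 0 := by decide +kernel

theorem two5 : ∀ s t : ZMod 7, ∃ a : ZMod 7, a ≠ 0 ∧ ∃ b : ZMod 7, b ≠ 0 ∧ a * b * s ≠ 1 ∧ ∃ Y : ZMod 7, Y ≠ 1 ∧ Y ≠ a * b * s - 1 ∧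
    (a * b * s - 1) * (Y * (a * 0 - 1 + a * b * t - Y)) + a ^ 5 * G5 4 6 1 2 b = 0 := by decide +kernel

theorem chk5 : Chk5 (ZMod 7) 0 2 4 3 4 6 1 2 where
  cyc := fun t => by
    obtain ⟨a, ha, b, hb, Y, hY, h⟩ := cyc5 t
    exact ⟨a, b, Y, ha, hb, hY, h⟩
  one := fun k t hk => by
    obtain ⟨a, ha, b, hb, Y, hY, hYk, h⟩ := one5 k hk t
    exact ⟨a, b, Y, ha, hb, hY, hYk, h⟩
  two := fun s t => by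
    obtain ⟨a, ha, b, hb, hs, Y, hY, hYk, h⟩ := two5 s t
    exact ⟨a, b, Y, ha, hb, hY, hs, hYk, h⟩
  exc := by decide +kernel

theorem four : ∃ c d : SpecialLinearGroup (Fin 4) (ZMod 7), Pr 4 (ZMod 7) c d :=
  four_pr (M := M) (N := N) chk4 irr_f irr_g (by rw [(Nat.card_zmod 7)]; norm_num) (by decide +kernel) (by decide +kernel)
    M_pow N_pow (by norm_num) (by norm_num)

theorem five : ∃ c d : SpecialLinearGroup (Fin 5) (ZMod 7), Pr 5 (ZMod 7) c d :=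
  five_pr chk5 irr_p irr_h (q := 7) (N := 2801) (Nat.card_zmod 7) (by norm_num) (by norm_num)

end Cfsg.Agent.H46.TL.QSeven
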