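import Cfsg.Agent.H46.TL.Ord

/-!
# The fixed pairs over the field with 17 elements
-/

set_option autoImplicit false
set_option maxRecDepth 100000
set_option maxHeartbeats 0

namespace Cfsg.Agent.H46.TL.QSevt

open Matrix Cfsg.Agent.H962.PP

instance fact : Fact (Nat.Prime 17) := ⟨by norm_num⟩

def M : Matrix (Fin 4) (Fin 4) (ZMod 17) := !![0, 0, 0, 16; 1, 0, 0, 14; 0, 1, 0, 11; 0, 0, 1, 14]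
def M2 : Matrix (Fin 4) (Fin 4) (ZMod 17) := !![0, 0, 16, 3; 0, 0, 14, 8; 1, 0, 11, 15; 0, 1, 14, 3]
def M4 : Matrix (Fin 4) (Fin 4) (ZMod 17) := !![16, 3, 14, 11; 14, 8, 11, 13; 11, 15, 7, 9; 14, 3, 6, 6]
def M8 : Matrix (Fin 4) (Fin 4) (ZMod 17) := !![11, 9, 13, 16; 10, 4, 14, 10; 11, 13, 14, 8; 8, 4, 1, 11]
def M16 : Matrix (Fin 4) (Fin 4) (ZMod 17) := !![6, 11, 8, 2; 10, 5, 1, 14; 10, 8, 2, 13; 6, 9, 15, 8]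
def M24 : Matrix (Fin 4) (Fin 4) (ZMod 17) := !![8, 6, 6, 3; 11, 9, 7, 15; 10, 13, 11, 8; 11, 11, 14, 3]
def M28 : Matrix (Fin 4) (Fin 4) (ZMod 17) := !![14, 1, 0, 0; 11, 0, 1, 0; 14, 0, 0, 1; 16, 0, 0, 0]
theorem M_pow : M ^ 29 = 1 := by
  have e1 : M ^ 1 = M := pow_one _
  have e2 : M ^ 2 = M2 := (pow_add M 1 1).trans (by rw [e1]; decide +kernel)
  have e4 : M ^ 4 = M4 := (pow_add M 2 2).trans (by rw [e2]; decide +kernel)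
  have e8 : M ^ 8 = M8 := (pow_add M 4 4).trans (by rw [e4]; decide +kernel)
  have e16 : M ^ 16 = M16 := (pow_add M 8 8).trans (by rw [e8]; decide +kernel)
  have e24 : M ^ 24 = M24 := (pow_add M 16 8).trans (by rw [e16, e8]; decide +kernel)
  have e28 : M ^ 28 = M28 := (pow_add M 24 4).trans (by rw [e24, e4]; decide +kernel)
  have e29 : M ^ 29 = 1 := (pow_add M 28 1).trans (by rw [e28, e1]; decide +kernel)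
  exact e29

def N : Matrix (Fin 4) (Fin 4) (ZMod 17) := !![0, 0, 0, 16; 1, 0, 0, 3; 0, 1, 0, 7; 0, 0, 1, 3]
def N2 : Matrix (Fin 4) (Fin 4) (ZMod 17) := !![0, 0, 16, 14; 0, 0, 3, 8; 1, 0, 7, 7; 0, 1, 3, 16]
def N4 : Matrix (Fin 4) (Fin 4) (ZMod 17) := !![16, 14, 1, 13; 3, 8, 11, 13; 7, 7, 1, 5; 3, 16, 4, 13]
def N8 : Matrix (Fin 4) (Fin 4) (ZMod 17) := !![4, 7, 2, 3; 1, 0, 1, 10; 2, 3, 3, 14; 10, 15, 14, 11]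
def N16 : Matrix (Fin 4) (Fin 4) (ZMod 17) := !![6, 11, 12, 7; 4, 7, 9, 8; 4, 12, 8, 11; 6, 5, 10, 4]
def N24 : Matrix (Fin 4) (Fin 4) (ZMod 17) := !![10, 13, 4, 16; 2, 5, 1, 7; 1, 13, 11, 8; 4, 13, 1, 14]
def N28 : Matrix (Fin 4) (Fin 4) (ZMod 17) := !![3, 1, 0, 0; 7, 0, 1, 0; 3, 0, 0, 1; 16, 0, 0, 0]
theorem N_pow : N ^ 29 = 1 := by
  have e1 : N ^ 1 = N := pow_one _
  have e2 : N ^ 2 = N2 := (pow_add N 1 1).trans (by rw [e1]; decide +kernel)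
  have e4 : N ^ 4 = N4 := (pow_add N 2 2).trans (by rw [e2]; decide +kernel)
  have e8 : N ^ 8 = N8 := (pow_add N 4 4).trans (by rw [e4]; decide +kernel)
  have e16 : N ^ 16 = N16 := (pow_add N 8 8).trans (by rw [e8]; decide +kernel)
  have e24 : N ^ 24 = N24 := (pow_add N 16 8).trans (by rw [e16, e8]; decide +kernel)
  have e28 : N ^ 28 = N28 := (pow_add N 24 4).trans (by rw [e24, e4]; decide +kernel)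
  have e29 : N ^ 29 = 1 := (pow_add N 28 1).trans (by rw [e28, e1]; decide +kernel)
  exact e29

theorem irr_f : Irreducible (kt (3 : ZMod 17) 6 3) :=
  kt_irr (by decide +kernel) (by decide +kernel)

theorem irr_g : Irreducible (kt (14 : ZMod 17) 10 14) :=
  kt_irr (by decide +kernel) (by decide +kernel)

theorem sp0 : ∃ X Y : Matrix (Fin 4) (Fin 4) (ZMod 17), Y * X = BB (1 : ZMod 17) 1 ∧
    (∀ j, (X ^ 4 + (3 : ZMod 17) • X ^ 3 + (6 : ZMod 17) • X ^ 2 + (3 : ZMod 17) • X + 1 : Matrix (Fin 4) (Fin 4) (ZMod 17)) j 0 = 0) ∧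
    (∀ j, (Y ^ 4 + (14 : ZMod 17) • Y ^ 3 + (10 : ZMod 17) • Y ^ 2 + (14 : ZMod 17) • Y + 1 : Matrix (Fin 4) (Fin 4) (ZMod 17)) j 0 = 0) :=
  ⟨!![11, 16, 4, 9; 2, 1, 8, 2; 8, 13, 12, 13; 16, 8, 7, 7], !![12, 13, 1, 13; 7, 7, 7, 10; 11, 2, 7, 11; 14, 8, 12, 11], by decide +kernel, by decide +kernel, by decide +kernel⟩

theorem sp1 : ∃ X Y : Matrix (Fin 4) (Fin 4) (ZMod 17), Y * X = BB (3 : ZMod 17) 1 ∧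
    (∀ j, (X ^ 4 + (3 : ZMod 17) • X ^ 3 + (6 : ZMod 17) • X ^ 2 + (3 : ZMod 17) • X + 1 : Matrix (Fin 4) (Fin 4) (ZMod 17)) j 0 = 0) ∧
    (∀ j, (Y ^ 4 + (14 : ZMod 17) • Y ^ 3 + (10 : ZMod 17) • Y ^ 2 + (14 : ZMod 17) • Y + 1 : Matrix (Fin 4) (Fin 4) (ZMod 17)) j 0 = 0) :=
  ⟨!![0, 8, 10, 6; 16, 9, 13, 16; 15, 12, 0, 5; 11, 2, 0, 5], !![12, 13, 0, 12; 11, 2, 13, 15; 0, 0, 15, 12; 8, 7, 15, 8], by decide +kernel, by decide +kernel, by decide +kernel⟩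

theorem sp2 : ∃ X Y : Matrix (Fin 4) (Fin 4) (ZMod 17), Y * X = BB (4 : ZMod 17) 1 ∧
    (∀ j, (X ^ 4 + (3 : ZMod 17) • X ^ 3 + (6 : ZMod 17) • X ^ 2 + (3 : ZMod 17) • X + 1 : Matrix (Fin 4) (Fin 4) (ZMod 17)) j 0 = 0) ∧
    (∀ j, (Y ^ 4 + (14 : ZMod 17) • Y ^ 3 + (10 : ZMod 17) • Y ^ 2 + (14 : ZMod 17) • Y + 1 : Matrix (Fin 4) (Fin 4) (ZMod 17)) j 0 = 0) :=
  ⟨!![14, 15, 13, 14; 11, 4, 10, 5; 0, 12, 9, 15; 3, 8, 15, 4], !![4, 8, 3, 3; 12, 15, 5, 14; 1, 13, 9, 10; 3, 3, 2, 9], by decide +kernel, by decide +kernel, by decide +kernel⟩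

theorem sp3 : ∃ X Y : Matrix (Fin 4) (Fin 4) (ZMod 17), Y * X = BB (7 : ZMod 17) 1 ∧
    (∀ j, (X ^ 4 + (3 : ZMod 17) • X ^ 3 + (6 : ZMod 17) • X ^ 2 + (3 : ZMod 17) • X + 1 : Matrix (Fin 4) (Fin 4) (ZMod 17)) j 0 = 0) ∧
    (∀ j, (Y ^ 4 + (14 : ZMod 17) • Y ^ 3 + (10 : ZMod 17) • Y ^ 2 + (14 : ZMod 17) • Y + 1 : Matrix (Fin 4) (Fin 4) (ZMod 17)) j 0 = 0) :=
  ⟨!![8, 8, 10, 4; 9, 16, 3, 9; 16, 4, 3, 0; 2, 15, 10, 4], !![10, 13, 8, 16; 12, 10, 14, 8; 6, 6, 3, 10; 10, 9, 2, 14], by decide +kernel, by decide +kernel, by decide +kernel⟩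

theorem sp4 : ∃ X Y : Matrix (Fin 4) (Fin 4) (ZMod 17), Y * X = BB (10 : ZMod 17) 1 ∧
    (∀ j, (X ^ 4 + (3 : ZMod 17) • X ^ 3 + (6 : ZMod 17) • X ^ 2 + (3 : ZMod 17) • X + 1 : Matrix (Fin 4) (Fin 4) (ZMod 17)) j 0 = 0) ∧
    (∀ j, (Y ^ 4 + (14 : ZMod 17) • Y ^ 3 + (10 : ZMod 17) • Y ^ 2 + (14 : ZMod 17) • Y + 1 : Matrix (Fin 4) (Fin 4) (ZMod 17)) j 0 = 0) :=
  ⟨!![11, 2, 5, 1; 15, 7, 12, 11; 15, 0, 11, 6; 0, 11, 14, 2], !![0, 10, 7, 9; 13, 2, 1, 5; 4, 8, 14, 5; 14, 14, 12, 4], by decide +kernel, by decide +kernel, by decide +kernel⟩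

theorem sp5 : ∃ X Y : Matrix (Fin 4) (Fin 4) (ZMod 17), Y * X = BB (13 : ZMod 17) 1 ∧
    (∀ j, (X ^ 4 + (3 : ZMod 17) • X ^ 3 + (6 : ZMod 17) • X ^ 2 + (3 : ZMod 17) • X + 1 : Matrix (Fin 4) (Fin 4) (ZMod 17)) j 0 = 0) ∧
    (∀ j, (Y ^ 4 + (14 : ZMod 17) • Y ^ 3 + (10 : ZMod 17) • Y ^ 2 + (14 : ZMod 17) • Y + 1 : Matrix (Fin 4) (Fin 4) (ZMod 17)) j 0 = 0) :=
  ⟨!![10, 12, 13, 8; 6, 13, 2, 8; 5, 2, 1, 1; 0, 15, 3, 7], !![6, 6, 8, 7; 6, 1, 4, 6; 3, 9, 7, 7; 15, 2, 5, 6], by decide +kernel, by decide +kernel, by decide +kernel⟩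

theorem sp6 : ∃ X Y : Matrix (Fin 4) (Fin 4) (ZMod 17), Y * X = BB (14 : ZMod 17) 1 ∧
    (∀ j, (X ^ 4 + (3 : ZMod 17) • X ^ 3 + (6 : ZMod 17) • X ^ 2 + (3 : ZMod 17) • X + 1 : Matrix (Fin 4) (Fin 4) (ZMod 17)) j 0 = 0) ∧
    (∀ j, (Y ^ 4 + (14 : ZMod 17) • Y ^ 3 + (10 : ZMod 17) • Y ^ 2 + (14 : ZMod 17) • Y + 1 : Matrix (Fin 4) (Fin 4) (ZMod 17)) j 0 = 0) :=
  ⟨!![9, 15, 15, 6; 15, 1, 3, 1; 3, 1, 1, 13; 12, 4, 12, 3], !![6, 14, 2, 3; 3, 7, 10, 5; 11, 16, 5, 13; 6, 1, 3, 2], by decide +kernel, by decide +kernel, by decide +kernel⟩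

theorem sp7 : ∃ X Y : Matrix (Fin 4) (Fin 4) (ZMod 17), Y * X = BB (16 : ZMod 17) 1 ∧
    (∀ j, (X ^ 4 + (3 : ZMod 17) • X ^ 3 + (6 : ZMod 17) • X ^ 2 + (3 : ZMod 17) • X + 1 : Matrix (Fin 4) (Fin 4) (ZMod 17)) j 0 = 0) ∧
    (∀ j, (Y ^ 4 + (14 : ZMod 17) • Y ^ 3 + (10 : ZMod 17) • Y ^ 2 + (14 : ZMod 17) • Y + 1 : Matrix (Fin 4) (Fin 4) (ZMod 17)) j 0 = 0) :=
  ⟨!![12, 6, 11, 12; 13, 7, 1, 12; 6, 6, 6, 7; 7, 1, 4, 6], !![3, 11, 0, 6; 8, 15, 14, 0; 1, 4, 15, 12; 3, 10, 13, 4], by decide +kernel, by decide +kernel, by decide +kernel⟩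

theorem sp8 : ∃ X Y : Matrix (Fin 4) (Fin 4) (ZMod 17), Y * X = BB (1 : ZMod 17) 16 ∧
    (∀ j, (X ^ 4 + (3 : ZMod 17) • X ^ 3 + (6 : ZMod 17) • X ^ 2 + (3 : ZMod 17) • X + 1 : Matrix (Fin 4) (Fin 4) (ZMod 17)) j 0 = 0) ∧
    (∀ j, (Y ^ 4 + (14 : ZMod 17) • Y ^ 3 + (10 : ZMod 17) • Y ^ 2 + (14 : ZMod 17) • Y + 1 : Matrix (Fin 4) (Fin 4) (ZMod 17)) j 0 = 0) :=
  ⟨!![11, 11, 15, 3; 12, 7, 10, 16; 3, 4, 0, 1; 8, 11, 7, 13], !![7, 14, 6, 16; 13, 10, 4, 4; 5, 7, 0, 6; 7, 13, 5, 3], by decide +kernel, by decide +kernel, by decide +kernel⟩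

theorem sp9 : ∃ X Y : Matrix (Fin 4) (Fin 4) (ZMod 17), Y * X = BB (4 : ZMod 17) 16 ∧
    (∀ j, (X ^ 4 + (3 : ZMod 17) • X ^ 3 + (6 : ZMod 17) • X ^ 2 + (3 : ZMod 17) • X + 1 : Matrix (Fin 4) (Fin 4) (ZMod 17)) j 0 = 0) ∧
    (∀ j, (Y ^ 4 + (14 : ZMod 17) • Y ^ 3 + (10 : ZMod 17) • Y ^ 2 + (14 : ZMod 17) • Y + 1 : Matrix (Fin 4) (Fin 4) (ZMod 17)) j 0 = 0) :=
  ⟨!![3, 7, 7, 4; 6, 0, 2, 5; 11, 12, 16, 15; 10, 14, 0, 12], !![3, 11, 9, 3; 10, 1, 4, 4; 1, 6, 2, 16; 16, 11, 14, 14], by decide +kernel, by decide +kernel, by decide +kernel⟩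

theorem sp10 : ∃ X Y : Matrix (Fin 4) (Fin 4) (ZMod 17), Y * X = BB (5 : ZMod 17) 16 ∧
    (∀ j, (X ^ 4 + (3 : ZMod 17) • X ^ 3 + (6 : ZMod 17) • X ^ 2 + (3 : ZMod 17) • X + 1 : Matrix (Fin 4) (Fin 4) (ZMod 17)) j 0 = 0) ∧
    (∀ j, (Y ^ 4 + (14 : ZMod 17) • Y ^ 3 + (10 : ZMod 17) • Y ^ 2 + (14 : ZMod 17) • Y + 1 : Matrix (Fin 4) (Fin 4) (ZMod 17)) j 0 = 0) :=
  ⟨!![0, 11, 14, 4; 0, 0, 16, 7; 11, 7, 9, 5; 4, 8, 15, 5], !![14, 9, 0, 0; 7, 3, 14, 0; 9, 16, 10, 15; 6, 4, 1, 10], by decide +kernel, by decide +kernel, by decide +kernel⟩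

theorem sp11 : ∃ X Y : Matrix (Fin 4) (Fin 4) (ZMod 17), Y * X = BB (6 : ZMod 17) 16 ∧
    (∀ j, (X ^ 4 + (3 : ZMod 17) • X ^ 3 + (6 : ZMod 17) • X ^ 2 + (3 : ZMod 17) • X + 1 : Matrix (Fin 4) (Fin 4) (ZMod 17)) j 0 = 0) ∧
    (∀ j, (Y ^ 4 + (14 : ZMod 17) • Y ^ 3 + (10 : ZMod 17) • Y ^ 2 + (14 : ZMod 17) • Y + 1 : Matrix (Fin 4) (Fin 4) (ZMod 17)) j 0 = 0) :=
  ⟨!![4, 7, 13, 6; 13, 0, 14, 13; 10, 13, 1, 0; 13, 16, 13, 9], !![13, 10, 16, 9; 4, 5, 16, 9; 7, 16, 5, 12; 1, 6, 11, 14], by decide +kernel, by decide +kernel, by decide +kernel⟩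

theorem sp12 : ∃ X Y : Matrix (Fin 4) (Fin 4) (ZMod 17), Y * X = BB (11 : ZMod 17) 16 ∧
    (∀ j, (X ^ 4 + (3 : ZMod 17) • X ^ 3 + (6 : ZMod 17) • X ^ 2 + (3 : ZMod 17) • X + 1 : Matrix (Fin 4) (Fin 4) (ZMod 17)) j 0 = 0) ∧
    (∀ j, (Y ^ 4 + (14 : ZMod 17) • Y ^ 3 + (10 : ZMod 17) • Y ^ 2 + (14 : ZMod 17) • Y + 1 : Matrix (Fin 4) (Fin 4) (ZMod 17)) j 0 = 0) :=
  ⟨!![7, 10, 10, 10; 9, 9, 3, 7; 11, 8, 15, 5; 1, 9, 0, 0], !![5, 2, 11, 13; 10, 4, 5, 10; 8, 13, 0, 14; 8, 8, 9, 11], by decide +kernel, by decide +kernel, by decide +kernel⟩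

theorem sp13 : ∃ X Y : Matrix (Fin 4) (Fin 4) (ZMod 17), Y * X = BB (12 : ZMod 17) 16 ∧
    (∀ j, (X ^ 4 + (3 : ZMod 17) • X ^ 3 + (6 : ZMod 17) • X ^ 2 + (3 : ZMod 17) • X + 1 : Matrix (Fin 4) (Fin 4) (ZMod 17)) j 0 = 0) ∧
    (∀ j, (Y ^ 4 + (14 : ZMod 17) • Y ^ 3 + (10 : ZMod 17) • Y ^ 2 + (14 : ZMod 17) • Y + 1 : Matrix (Fin 4) (Fin 4) (ZMod 17)) j 0 = 0) :=
  ⟨!![7, 12, 7, 13; 0, 13, 16, 2; 14, 1, 16, 13; 1, 13, 16, 12], !![7, 11, 9, 12; 15, 4, 13, 3; 12, 11, 1, 4; 4, 7, 12, 8], by decide +kernel, by decide +kernel, by decide +kernel⟩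

theorem sp14 : ∃ X Y : Matrix (Fin 4) (Fin 4) (ZMod 17), Y * X = BB (13 : ZMod 17) 16 ∧
    (∀ j, (X ^ 4 + (3 : ZMod 17) • X ^ 3 + (6 : ZMod 17) • X ^ 2 + (3 : ZMod 17) • X + 1 : Matrix (Fin 4) (Fin 4) (ZMod 17)) j 0 = 0) ∧
    (∀ j, (Y ^ 4 + (14 : ZMod 17) • Y ^ 3 + (10 : ZMod 17) • Y ^ 2 + (14 : ZMod 17) • Y + 1 : Matrix (Fin 4) (Fin 4) (ZMod 17)) j 0 = 0) :=
  ⟨!![11, 10, 12, 5; 8, 2, 16, 6; 14, 3, 15, 8; 7, 16, 9, 3], !![2, 10, 16, 2; 3, 3, 4, 1; 11, 2, 0, 12; 12, 10, 15, 15], by decide +kernel, by decide +kernel, by decide +kernel⟩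

theorem sp15 : ∃ X Y : Matrix (Fin 4) (Fin 4) (ZMod 17), Y * X = BB (16 : ZMod 17) 16 ∧
    (∀ j, (X ^ 4 + (3 : ZMod 17) • X ^ 3 + (6 : ZMod 17) • X ^ 2 + (3 : ZMod 17) • X + 1 : Matrix (Fin 4) (Fin 4) (ZMod 17)) j 0 = 0) ∧
    (∀ j, (Y ^ 4 + (14 : ZMod 17) • Y ^ 3 + (10 : ZMod 17) • Y ^ 2 + (14 : ZMod 17) • Y + 1 : Matrix (Fin 4) (Fin 4) (ZMod 17)) j 0 = 0) :=
  ⟨!![12, 8, 11, 9; 11, 8, 8, 6; 16, 6, 11, 0; 15, 14, 12, 0], !![8, 5, 4, 14; 10, 2, 13, 13; 12, 2, 16, 7; 10, 16, 2, 11], by decide +kernel, by decide +kernel, by decide +kernel⟩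

theorem sp_cases : ∀ t d : ZMod 17, d ^ 2 = 1 → (∀ x : ZMod 17, x ^ 2 - t * x + d ≠ 0) →
    (t = 1 ∧ d = 1) ∨ (t = 3 ∧ d = 1) ∨ (t = 4 ∧ d = 1) ∨ (t = 7 ∧ d = 1) ∨ (t = 10 ∧ d = 1) ∨ (t = 13 ∧ d = 1) ∨ (t = 14 ∧ d = 1) ∨ (t = 16 ∧ d = 1) ∨ (t = 1 ∧ d = 16) ∨ (t = 4 ∧ d = 16) ∨ (t = 5 ∧ d = 16) ∨ (t = 6 ∧ d = 16) ∨ (t = 11 ∧ d = 16) ∨ (t = 12 ∧ d = 16) ∨ (t = 13 ∧ d = 16) ∨ (t = 16 ∧ d = 16) := by decide +kernel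

theorem cyc4 : ∀ t : ZMod 17, ∃ a : ZMod 17, a ≠ 0 ∧ ∃ b : ZMod 17, b ≠ 0 ∧ ∃ Y : ZMod 17, Y ≠ 1 ∧
    Y * (a * 3 - 2 + a * b * t - Y) = a ^ 4 * G4 14 10 14 b := by decide +kernel

theorem one4 : ∀ k : ZMod 17, k ≠ 0 → ∀ t : ZMod 17, ∃ a : ZMod 17, a ≠ 0 ∧ ∃ b : ZMod 17, b ≠ 0 ∧ ∃ Y : ZMod 17, Y ≠ 1 ∧ Y ≠ a * b * k ∧
    (a * b * k) * (Y * (a * 3 - 1 + a * b * t - Y)) = a ^ 4 * G4 14 10 14 b := by decide +kernel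

theorem chk4 : Chk4 (ZMod 17) 3 6 3 14 10 14 where
  cyc := fun t => by
    obtain ⟨a, ha, b, hb, Y, hY, h⟩ := cyc4 t
    exact ⟨a, b, Y, ha, hb, hY, h⟩
  one := fun k t hk => by
    obtain ⟨a, ha, b, hb, Y, hY, hYk, h⟩ := one4 k hk t
    exact ⟨a, b, Y, ha, hb, hY, hYk, h⟩
  two := fun t d hd hx => by
    rcases sp_cases t d hd hx with ⟨rfl, rfl⟩ | ⟨rfl, rfl⟩ | ⟨rfl, rfl⟩ | ⟨rfl, rfl⟩ | ⟨rfl, rfl⟩ | ⟨rfl, rfl⟩ | ⟨rfl, rfl⟩ | ⟨rfl, rfl⟩ | ⟨rfl, rfl⟩ | ⟨rfl, rfl⟩ | ⟨rfl, rfl⟩ | ⟨rfl, rfl⟩ | ⟨rfl, rfl⟩ | ⟨rfl, rfl⟩ | ⟨rfl, rfl⟩ | ⟨rfl, rfl⟩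
    · exact sp0
    · exact sp1
    · exact sp2
    · exact sp3
    · exact sp4
    · exact sp5
    · exact sp6
    · exact sp7
    · exact sp8
    · exact sp9
    · exact sp10
    · exact sp11
    · exact sp12
    · exact sp13
    · exact sp14
    · exact sp15
  exc := by decide +kernel

theorem irr_p : Irreducible (qt (0 : ZMod 17) 0 0 4 (-1)) :=
  qt_irr (by decide +kernel) (by decide +kernel)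

theorem irr_h : Irreducible (qt (0 : ZMod 17) 0 0 4 (-1)) :=
  qt_irr (by decide +kernel) (by decide +kernel)

theorem cyc5 : ∀ t : ZMod 17, ∃ a : ZMod 17, a ≠ 0 ∧ ∃ b : ZMod 17, b ≠ 0 ∧ ∃ Y : ZMod 17, Y ≠ 1 ∧
    Y * (a * 0 - 3 + a * b * t - Y) + a ^ 5 * G5 0 0 0 4 b = 0 := by decide +kernel

theorem one5 : ∀ k : ZMod 17, k ≠ 0 → ∀ t : ZMod 17, ∃ a : ZMod 17, a ≠ 0 ∧ ∃ b : ZMod 17, b ≠ 0 ∧ ∃ Y : ZMod 17, Y ≠ 1 ∧ Y ≠ a * b * k ∧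
    (a * b * k) * (Y * (a * 0 - 2 + a * b * t - Y)) + a ^ 5 * G5 0 0 0 4 b = 0 := by decide +kernel

theorem two5 : ∀ s t : ZMod 17, ∃ a : ZMod 17, a ≠ 0 ∧ ∃ b : ZMod 17, b ≠ 0 ∧ a * b * s ≠ 1 ∧ ∃ Y : ZMod 17, Y ≠ 1 ∧ Y ≠ a * b * s - 1 ∧
    (a * b * s - 1) * (Y * (a * 0 - 1 + a * b * t - Y)) + a ^ 5 * G5 0 0 0 4 b = 0 := by decide +kernel

theorem chk5 : Chk5 (ZMod 17) 0 0 0 4 0 0 0 4 where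
  cyc := fun t => by
    obtain ⟨a, ha, b, hb, Y, hY, h⟩ := cyc5 t
    exact ⟨a, b, Y, ha, hb, hY, h⟩
  one := fun k t hk => by
    obtain ⟨a, ha, b, hb, Y, hY, hYk, h⟩ := one5 k hk t
    exact ⟨a, b, Y, ha, hb, hY, hYk, h⟩
  two := fun s t => by
    obtain ⟨a, ha, b, hb, hs, Y, hY, hYk, h⟩ := two5 s t
    exact ⟨a, b, Y, ha, hb, hY, hs, hYk, h⟩
  exc := by decide +kernel

theorem four : ∃ c d : SpecialLinearGroup (Fin 4) (ZMod 17), Pr 4 (ZMod 17) c d :=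
  four_pr (M := M) (N := N) chk4 irr_f irr_g (by rw [(Nat.card_zmod 17)]; norm_num) (by decide +kernel) (by decide +kernel)
    M_pow N_pow (by norm_num) (by norm_num)

theorem five : ∃ c d : SpecialLinearGroup (Fin 5) (ZMod 17), Pr 5 (ZMod 17) c d :=
  five_pr chk5 irr_p irr_h (q := 17) (N := 88741) (Nat.card_zmod 17) (by norm_num) (by norm_num)

end Cfsg.Agent.H46.TL.QSevt
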