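import Cfsg.Agent.H46.TL.QFour
import Cfsg.Agent.H46.TL.QFive
import Cfsg.Agent.H46.TL.QSeven
import Cfsg.Agent.H46.TL.QSevt

/-!
# Fixed pairs in `SL₄(q)` and `SL₅(q)`, `q = 4, 5, 7, 17`

`tl_four`, `tl_five` : `c d` of orders prime to 6 with irreducible characteristic polynomials and every nonscalar element
is a product of a conjugate of `c` and a conjugate of `d`.
-/

set_option autoImplicit false

namespace Cfsg.Agent.H46.TL

open Matrix

universe u

theorem pr_of_card {n p : ℕ} [Fact p.Prime] {F : Type u} [Field F] [Finite F] (hF : Nat.card F = p)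
    (h : ∃ c d : SpecialLinearGroup (Fin n) (ZMod p), Pr n (ZMod p) c d) :
    ∃ c d : SpecialLinearGroup (Fin n) F, Pr n F c d := by
  let _ : Fintype F := Fintype.ofFinite F
  have hc : Fintype.card (ZMod p) = Fintype.card F := by rw [ZMod.card, ← Nat.card_eq_fintype_card, hF]
  obtain ⟨c, d, hcd⟩ := h
  exact ⟨_, _, hcd.map (FiniteField.ringEquivOfCardEq hc)⟩

theorem pr_of_four {n : ℕ} {F : Type u} [Field F] [Finite F] (hF : Nat.card F = 4)
    (h : ∃ c d : SpecialLinearGroup (Fin n) Lib.FieldFour.F4, Pr n Lib.FieldFour.F4 c d) :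
    ∃ c d : SpecialLinearGroup (Fin n) F, Pr n F c d := by
  let _ : Fintype F := Fintype.ofFinite F
  obtain ⟨c, d, hcd⟩ := h
  exact ⟨_, _, hcd.map (Lib.FieldFour.equivOfCard (by rw [← Nat.card_eq_fintype_card, hF])).symm⟩

/-- the four fields -/
def Q4 (F : Type u) : Prop := Nat.card F = 4 ∨ Nat.card F = 5 ∨ Nat.card F = 7 ∨ Nat.card F = 17

theorem pr_four (F : Type u) [Field F] [Finite F] (h : Q4 F) : ∃ c d : SpecialLinearGroup (Fin 4) F, Pr 4 F c d := by
  rcases h with h | h | h | h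
  · exact pr_of_four h QFour.four
  · exact pr_of_card h QFive.four
  · exact pr_of_card h QSeven.four
  · exact pr_of_card h QSevt.four

theorem pr_five (F : Type u) [Field F] [Finite F] (h : Q4 F) : ∃ c d : SpecialLinearGroup (Fin 5) F, Pr 5 F c d := by
  rcases h with h | h | h | h
  · exact pr_of_four h QFour.five
  · exact pr_of_card h QFive.five
  · exact pr_of_card h QSeven.five
  · exact pr_of_card h QSevt.five

/-- **`SL₄(q)`, `q = 4, 5, 7, 17`** -/
theorem tl_four (F : Type u) [Field F] [Finite F] (h : Q4 F) : ∃ c d : SpecialLinearGroup (Fin 4) F,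
    Irreducible (c : Matrix (Fin 4) (Fin 4) F).charpoly ∧ Irreducible (d : Matrix (Fin 4) (Fin 4) F).charpoly ∧
    (orderOf c).Coprime 6 ∧ (orderOf d).Coprime 6 ∧
    ∀ A : SpecialLinearGroup (Fin 4) F, (∀ a : F, (A : Matrix (Fin 4) (Fin 4) F) ≠ a • (1 : Matrix (Fin 4) (Fin 4) F)) →
      ∃ g h : SpecialLinearGroup (Fin 4) F, A = (g * c * g⁻¹) * (h * d * h⁻¹) := by
  obtain ⟨c, d, hcd⟩ := pr_four F h
  exact ⟨c, d, hcd.irrc, hcd.irrd, hcd.ordc, hcd.ordd, hcd.tlc⟩

/-- **`SL₅(q)`, `q = 4, 5, 7, 17`** -/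
theorem tl_five (F : Type u) [Field F] [Finite F] (h : Q4 F) : ∃ c d : SpecialLinearGroup (Fin 5) F,
    Irreducible (c : Matrix (Fin 5) (Fin 5) F).charpoly ∧ Irreducible (d : Matrix (Fin 5) (Fin 5) F).charpoly ∧
    (orderOf c).Coprime 6 ∧ (orderOf d).Coprime 6 ∧
    ∀ A : SpecialLinearGroup (Fin 5) F, (∀ a : F, (A : Matrix (Fin 5) (Fin 5) F) ≠ a • (1 : Matrix (Fin 5) (Fin 5) F)) →
      ∃ g h : SpecialLinearGroup (Fin 5) F, A = (g * c * g⁻¹) * (h * d * h⁻¹) := by
  obtain ⟨c, d, hcd⟩ := pr_five F h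
  exact ⟨c, d, hcd.irrc, hcd.irrd, hcd.ordc, hcd.ordd, hcd.tlc⟩

end Cfsg.Agent.H46.TL
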