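import Cfsg.Agent.H46.TL.SL
import Cfsg.Agent.H46.TL.Irr

/-!
# Orders, companion matrices, change of the field
-/

set_option autoImplicit false

namespace Cfsg.Agent.H46.TL

open Polynomial Cfsg.Agent.H962.PP Module Matrix

universe u v

theorem dvd_pow_norm {K : Type u} [Field K] [Finite K] {f : K[X]} (hfi : Irreducible f) (hfm : f.Monic)
    (h0 : (-1) ^ f.natDegree * f.coeff 0 = 1) :
    f ∣ X ^ ((Nat.card K ^ f.natDegree - 1) / (Nat.card K - 1)) - 1 := by
  have : Fact (Irreducible f) := ⟨hfi⟩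
  have hfin : Module.Finite K (AdjoinRoot f) := (AdjoinRoot.powerBasis hfi.ne_zero).finite
  have : Finite (AdjoinRoot f) := Module.finite_of_finite K
  have hcard : Nat.card (AdjoinRoot f) = Nat.card K ^ f.natDegree := by
    rw [Module.natCard_eq_pow_finrank (K := K), (AdjoinRoot.powerBasis hfi.ne_zero).finrank]
    rfl
  have h1 := FiniteField.algebraMap_norm_eq_pow (K := K) (K' := AdjoinRoot f) (x := AdjoinRoot.root f)
  have h2 : Algebra.norm K (AdjoinRoot.root f) = 1 := by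
    have h3 := Algebra.PowerBasis.norm_gen_eq_coeff_zero_minpoly (AdjoinRoot.powerBasis hfi.ne_zero)
    rw [AdjoinRoot.minpoly_powerBasis_gen_of_monic hfm] at h3
    exact h3.trans h0
  rw [h2, map_one, hcard] at h1
  rw [← AdjoinRoot.mk_eq_zero, map_sub, map_pow, AdjoinRoot.mk_X, ← h1, map_one, sub_self]

theorem sl_pow {K : Type u} [Field K] {n r : ℕ} {c : SpecialLinearGroup (Fin n) K}
    (h : (c : Matrix (Fin n) (Fin n) K).charpoly ∣ X ^ r - 1) : c ^ r = 1 := by
  obtain ⟨g, hg⟩ := h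
  have h1 : aeval (c : Matrix (Fin n) (Fin n) K) (X ^ r - 1 : K[X]) = 0 := by
    rw [hg, map_mul, Matrix.aeval_self_charpoly, zero_mul]
  rw [map_sub, map_pow, aeval_X, map_one, sub_eq_zero] at h1
  exact Subtype.ext ((Matrix.SpecialLinearGroup.coe_pow c r).trans (h1.trans Matrix.SpecialLinearGroup.coe_one.symm))

theorem exists_sl {K : Type u} [Field K] {n : ℕ} {f : K[X]} (hfm : f.Monic) (hfd : f.natDegree = n)
    (h0 : (-1) ^ n * f.coeff 0 = 1) :
    ∃ c : SpecialLinearGroup (Fin n) K, (c : Matrix (Fin n) (Fin n) K).charpoly = f := by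
  have h1 := H953.charpoly_comp hfm
  obtain ⟨M, hM⟩ : ∃ M : Matrix (Fin n) (Fin n) K, M.charpoly = f :=
    ⟨(H953.comp f).submatrix (finCongr hfd.symm) (finCongr hfd.symm),
      (Matrix.charpoly_reindex (finCongr hfd) (H953.comp f)).trans h1⟩
  refine ⟨⟨M, ?_⟩, hM⟩
  rw [Matrix.det_eq_sign_charpoly_coeff, hM, Fintype.card_fin, h0]

/-- the data needed for `E₈(q)` -/
structure Pr (n : ℕ) (K : Type u) [Field K] (c d : SpecialLinearGroup (Fin n) K) : Prop where
  irrc : Irreducible (c : Matrix (Fin n) (Fin n) K).charpoly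
  irrd : Irreducible (d : Matrix (Fin n) (Fin n) K).charpoly
  ordc : (orderOf c).Coprime 6
  ordd : (orderOf d).Coprime 6
  tlc : TLC n K c d

theorem cop_of_pow {G : Type u} [Group G] {x : G} {r : ℕ} (h : x ^ r = 1) (hr : r.Coprime 6) : (orderOf x).Coprime 6 :=
  Nat.Coprime.coprime_dvd_left (orderOf_dvd_of_pow_eq_one h) hr

/-- change of the field -/
theorem Pr.map {K : Type u} {L : Type v} [Field K] [Field L] (e : K ≃+* L) {n : ℕ} {c d : SpecialLinearGroup (Fin n) K}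
    (h : Pr n K c d) : Pr n L (SpecialLinearGroup.map e.toRingHom c) (SpecialLinearGroup.map e.toRingHom d) := by
  have hinj : Function.Injective (SpecialLinearGroup.map (n := Fin n) e.toRingHom) := by
    intro x y hxy
    apply Subtype.ext
    ext i j
    apply e.injective
    have h1 := congrArg (fun z : SpecialLinearGroup (Fin n) L => (z : Matrix (Fin n) (Fin n) L) i j) hxy
    exact h1
  have hch : ∀ z : SpecialLinearGroup (Fin n) K, Irreducible (z : Matrix (Fin n) (Fin n) K).charpoly →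
      Irreducible ((SpecialLinearGroup.map e.toRingHom z : SpecialLinearGroup (Fin n) L) :
        Matrix (Fin n) (Fin n) L).charpoly := by
    intro z hz
    have h1 : ((SpecialLinearGroup.map e.toRingHom z : SpecialLinearGroup (Fin n) L) :
        Matrix (Fin n) (Fin n) L).charpoly = (Polynomial.mapEquiv e) (z : Matrix (Fin n) (Fin n) K).charpoly := by
      rw [Polynomial.mapEquiv_apply, ← Matrix.charpoly_map]
      rfl
    rw [h1]
    exact (MulEquiv.irreducible_iff (Polynomial.mapEquiv e)).2 hz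
  refine ⟨hch c h.irrc, hch d h.irrd, by rw [orderOf_injective _ hinj]; exact h.ordc,
    by rw [orderOf_injective _ hinj]; exact h.ordd, ?_⟩
  intro A hA
  obtain ⟨B, hB⟩ : ∃ B : SpecialLinearGroup (Fin n) K, SpecialLinearGroup.map e.toRingHom B = A := by
    refine ⟨SpecialLinearGroup.map e.symm.toRingHom A, ?_⟩
    apply Subtype.ext
    ext i j
    exact e.apply_symm_apply _
  obtain ⟨g, k, hgk⟩ := h.tlc B (by
    intro a ha
    apply hA (e a)
    rw [← hB]
    ext i j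
    have h1 := congrArg (fun M : Matrix (Fin n) (Fin n) K => e (M i j)) ha
    change e ((B : Matrix (Fin n) (Fin n) K) i j) = _
    refine h1.trans ?_
    simp only [Matrix.smul_apply, smul_eq_mul, map_mul, Matrix.one_apply]
    split_ifs <;> simp)
  exact ⟨SpecialLinearGroup.map e.toRingHom g, SpecialLinearGroup.map e.toRingHom k, by
    rw [← hB, hgk]; simp only [map_mul, map_inv]⟩

/-- the characteristic polynomial of an explicit 4 x 4 matrix -/
theorem charM4 {K : Type u} [Field K] {M : Matrix (Fin 4) (Fin 4) K} {p q r : K} (hi : Irreducible (kt p q r))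
    (hM : ∀ j, (M ^ 4 + p • M ^ 3 + q • M ^ 2 + r • M + 1 : Matrix (Fin 4) (Fin 4) K) j 0 = 0) :
    M.charpoly = kt p q r := by
  rw [← charpoly_toLin']
  refine charpoly_of_kill _ (kt_monic ..) hi ((kt_natDegree ..).trans (by simp)) (v := Pi.single 0 1) (by
    intro h
    have := congrFun h 0
    simp at this) ?_
  have e1 : aeval (Matrix.toLin' M) (kt p q r) = Matrix.toLinAlgEquiv' (M ^ 4 + p • M ^ 3 + q • M ^ 2 + r • M + 1) := by
    rw [kt]
    change aeval (Matrix.toLinAlgEquiv' M) _ = _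
    simp only [map_add, map_mul, map_pow, aeval_X, aeval_C, map_one, Algebra.smul_def, AlgEquiv.commutes]
  rw [e1, Matrix.toLinAlgEquiv'_apply, Matrix.mulVec_single_one]
  ext j
  exact hM j

theorem five_pr {K : Type u} [Field K] [Finite K] {f4 f3 f2 f1 g4 g3 g2 g1 : K} (hc : Chk5 K f4 f3 f2 f1 g4 g3 g2 g1)
    (hfi : Irreducible (qt f4 f3 f2 f1 (-1))) (hgi : Irreducible (qt g4 g3 g2 g1 (-1))) {q N : ℕ} (hq : Nat.card K = q)
    (hN : (q ^ 5 - 1) / (q - 1) = N) (h6 : N.Coprime 6) : ∃ c d : SpecialLinearGroup (Fin 5) K, Pr 5 K c d := by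
  have hgm := qt_monic g4 g3 g2 g1 (-1)
  have hfm := qt_monic f4 f3 f2 f1 (-1)
  have hgd := qt_natDegree g4 g3 g2 g1 (-1)
  have hfd := qt_natDegree f4 f3 f2 f1 (-1)
  have hg0 := qt_zero g4 g3 g2 g1 (-1)
  have hf0 := qt_zero f4 f3 f2 f1 (-1)
  obtain ⟨c, hcc⟩ := exists_sl hgm hgd (by rw [hg0]; norm_num)
  obtain ⟨d, hdc⟩ := exists_sl hfm hfd (by rw [hf0]; norm_num)
  have k1 := dvd_pow_norm hgi hgm (by rw [hgd, hg0]; norm_num)
  have k2 := dvd_pow_norm hfi hfm (by rw [hfd, hf0]; norm_num)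
  rw [hgd, hq, hN] at k1
  rw [hfd, hq, hN] at k2
  refine ⟨c, d, by rw [hcc]; exact hgi, by rw [hdc]; exact hfi, cop_of_pow (sl_pow (by rw [hcc]; exact k1)) h6,
    cop_of_pow (sl_pow (by rw [hdc]; exact k2)) h6, tlc_of (by rw [hcc]; exact hgi) (by rw [hdc]; exact hfi) ?_⟩
  intro A hA hns
  rw [hcc, hdc]
  exact five_dec hc hfi hgi (by simp) A hA hns

theorem four_pr {K : Type u} [Field K] [Finite K] {f3 f2 f1 g3 g2 g1 : K} (hc : Chk4 K f3 f2 f1 g3 g2 g1)
    (hfi : Irreducible (kt f3 f2 f1)) (hgi : Irreducible (kt g3 g2 g1)) (hK : 3 ≤ Nat.card K)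
    {M N : Matrix (Fin 4) (Fin 4) K}
    (hM : ∀ j, (M ^ 4 + f3 • M ^ 3 + f2 • M ^ 2 + f1 • M + 1 : Matrix (Fin 4) (Fin 4) K) j 0 = 0)
    (hN : ∀ j, (N ^ 4 + g3 • N ^ 3 + g2 • N ^ 2 + g1 • N + 1 : Matrix (Fin 4) (Fin 4) K) j 0 = 0) {r s : ℕ}
    (hr : M ^ r = 1) (hs : N ^ s = 1) (hr6 : r.Coprime 6) (hs6 : s.Coprime 6) :
    ∃ c d : SpecialLinearGroup (Fin 4) K, Pr 4 K c d := by
  have hMc := charM4 hfi hM
  have hNc := charM4 hgi hN
  obtain ⟨c, hcc⟩ : ∃ c : SpecialLinearGroup (Fin 4) K, (c : Matrix (Fin 4) (Fin 4) K) = N :=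
    ⟨⟨N, by rw [Matrix.det_eq_sign_charpoly_coeff, hNc, (kt_coeff ..).2.2.2, Fintype.card_fin]; norm_num⟩, rfl⟩
  obtain ⟨d, hdc⟩ : ∃ d : SpecialLinearGroup (Fin 4) K, (d : Matrix (Fin 4) (Fin 4) K) = M :=
    ⟨⟨M, by rw [Matrix.det_eq_sign_charpoly_coeff, hMc, (kt_coeff ..).2.2.2, Fintype.card_fin]; norm_num⟩, rfl⟩
  have hcs : c ^ s = 1 := Subtype.ext ((Matrix.SpecialLinearGroup.coe_pow c s).trans (by rw [hcc, hs]; rfl))
  have hdr : d ^ r = 1 := Subtype.ext ((Matrix.SpecialLinearGroup.coe_pow d r).trans (by rw [hdc, hr]; rfl))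
  refine ⟨c, d, by rw [hcc, hNc]; exact hgi, by rw [hdc, hMc]; exact hfi, cop_of_pow hcs hs6, cop_of_pow hdr hr6,
    tlc_of (by rw [hcc, hNc]; exact hgi) (by rw [hdc, hMc]; exact hfi) ?_⟩
  intro A hA hns
  rw [hcc, hdc, hNc, hMc]
  exact four_dec hK hc hfi hgi (by simp) A hA hns

end Cfsg.Agent.H46.TL
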