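import Cfsg.Agent.H46.TL.Ord
import Cfsg.Agent.Lib.FieldFour

/-!
# The fixed pairs over the field with 4 elements
-/

set_option autoImplicit false
set_option maxRecDepth 100000
set_option maxHeartbeats 0

namespace Cfsg.Agent.H46.TL.QFour

open Matrix Cfsg.Agent.H962.PP

open Cfsg.Agent.Lib.FieldFour

def M : Matrix (Fin 4) (Fin 4) (F4) := !![0, 0, 0, 1; 1, 0, 0, F4.w; 0, 1, 0, 1; 0, 0, 1, F4.w]
def M2 : Matrix (Fin 4) (Fin 4) (F4) := !![0, 0, 1, F4.w; 0, 0, F4.w, F4.w; 1, 0, 1, 0; 0, 1, F4.w, F4.w]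
def M4 : Matrix (Fin 4) (Fin 4) (F4) := !![1, F4.w, F4.w, F4.v; F4.w, F4.w, 1, F4.v; 1, 0, 0, F4.w; F4.w, F4.w, F4.v, 1]
def M8 : Matrix (Fin 4) (Fin 4) (F4) := !![1, 0, F4.w, F4.w; 1, 1, F4.v, 1; F4.w, 1, F4.v, 1; 0, F4.w, F4.w, 0]
def M16 : Matrix (Fin 4) (Fin 4) (F4) := !![F4.w, 1, 0, 0; 1, 0, 1, 0; F4.w, 0, 0, 1; 1, 0, 0, 0]
theorem M_pow : M ^ 17 = 1 := by
  have e1 : M ^ 1 = M := pow_one _
  have e2 : M ^ 2 = M2 := (pow_add M 1 1).trans (by rw [e1]; decide +kernel)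
  have e4 : M ^ 4 = M4 := (pow_add M 2 2).trans (by rw [e2]; decide +kernel)
  have e8 : M ^ 8 = M8 := (pow_add M 4 4).trans (by rw [e4]; decide +kernel)
  have e16 : M ^ 16 = M16 := (pow_add M 8 8).trans (by rw [e8]; decide +kernel)
  have e17 : M ^ 17 = 1 := (pow_add M 16 1).trans (by rw [e16, e1]; decide +kernel)
  exact e17

def N : Matrix (Fin 4) (Fin 4) (F4) := !![0, 0, 0, 1; 1, 0, 0, 1; 0, 1, 0, F4.w; 0, 0, 1, 1]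
def N2 : Matrix (Fin 4) (Fin 4) (F4) := !![0, 0, 1, 1; 0, 0, 1, 0; 1, 0, F4.w, F4.v; 0, 1, 1, F4.v]
def N4 : Matrix (Fin 4) (Fin 4) (F4) := !![1, 1, F4.v, 0; 1, 0, F4.w, F4.v; F4.w, F4.v, 1, F4.w; 1, F4.v, 0, 1]
def N8 : Matrix (Fin 4) (Fin 4) (F4) := !![1, F4.v, F4.w, F4.w; 1, F4.w, 1, 0; 1, 0, 1, F4.w; F4.v, F4.w, F4.w, F4.v]
def N16 : Matrix (Fin 4) (Fin 4) (F4) := !![1, 1, 0, 0; F4.w, 0, 1, 0; 1, 0, 0, 1; 1, 0, 0, 0]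
theorem N_pow : N ^ 17 = 1 := by
  have e1 : N ^ 1 = N := pow_one _
  have e2 : N ^ 2 = N2 := (pow_add N 1 1).trans (by rw [e1]; decide +kernel)
  have e4 : N ^ 4 = N4 := (pow_add N 2 2).trans (by rw [e2]; decide +kernel)
  have e8 : N ^ 8 = N8 := (pow_add N 4 4).trans (by rw [e4]; decide +kernel)
  have e16 : N ^ 16 = N16 := (pow_add N 8 8).trans (by rw [e8]; decide +kernel)
  have e17 : N ^ 17 = 1 := (pow_add N 16 1).trans (by rw [e16, e1]; decide +kernel)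
  exact e17

theorem irr_f : Irreducible (kt (F4.w : F4) 1 F4.w) :=
  kt_irr (by decide +kernel) (by decide +kernel)

theorem irr_g : Irreducible (kt (1 : F4) F4.w 1) :=
  kt_irr (by decide +kernel) (by decide +kernel)

theorem sp0 : ∃ X Y : Matrix (Fin 4) (Fin 4) (F4), Y * X = BB (F4.w : F4) 1 ∧
    (∀ j, (X ^ 4 + (F4.w : F4) • X ^ 3 + (1 : F4) • X ^ 2 + (F4.w : F4) • X + 1 : Matrix (Fin 4) (Fin 4) (F4)) j 0 = 0) ∧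
    (∀ j, (Y ^ 4 + (1 : F4) • Y ^ 3 + (F4.w : F4) • Y ^ 2 + (1 : F4) • Y + 1 : Matrix (Fin 4) (Fin 4) (F4)) j 0 = 0) :=
  ⟨!![F4.v, F4.w, 1, 1; F4.v, 0, F4.v, 1; F4.v, 0, F4.v, 0; F4.v, F4.w, 0, F4.w], !![F4.w, 0, F4.v, 1; F4.w, F4.v, 0, F4.v; 0, 1, 1, 0; 1, 1, 1, 1], by decide +kernel, by decide +kernel, by decide +kernel⟩

theorem sp1 : ∃ X Y : Matrix (Fin 4) (Fin 4) (F4), Y * X = BB (F4.v : F4) 1 ∧
    (∀ j, (X ^ 4 + (F4.w : F4) • X ^ 3 + (1 : F4) • X ^ 2 + (F4.w : F4) • X + 1 : Matrix (Fin 4) (Fin 4) (F4)) j 0 = 0) ∧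
    (∀ j, (Y ^ 4 + (1 : F4) • Y ^ 3 + (F4.w : F4) • Y ^ 2 + (1 : F4) • Y + 1 : Matrix (Fin 4) (Fin 4) (F4)) j 0 = 0) :=
  ⟨!![F4.v, F4.v, F4.v, 1; 0, F4.w, F4.w, 1; 0, 1, 0, 1; F4.w, F4.w, 1, F4.v], !![F4.v, F4.w, F4.w, 1; F4.v, 0, F4.w, F4.w; F4.v, F4.w, F4.v, 1; F4.v, 1, F4.w, 1], by decide +kernel, by decide +kernel, by decide +kernel⟩

theorem sp_cases : ∀ t d : F4, d ^ 2 = 1 → (∀ x : F4, x ^ 2 - t * x + d ≠ 0) →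
    (t = F4.w ∧ d = 1) ∨ (t = F4.v ∧ d = 1) := by decide +kernel

theorem cyc4 : ∀ t : F4, ∃ a : F4, a ≠ 0 ∧ ∃ b : F4, b ≠ 0 ∧ ∃ Y : F4, Y ≠ 1 ∧
    Y * (a * F4.w - 2 + a * b * t - Y) = a ^ 4 * G4 1 F4.w 1 b := by decide +kernel

theorem one4 : ∀ k : F4, k ≠ 0 → ∀ t : F4, ∃ a : F4, a ≠ 0 ∧ ∃ b : F4, b ≠ 0 ∧ ∃ Y : F4, Y ≠ 1 ∧ Y ≠ a * b * k ∧
    (a * b * k) * (Y * (a * F4.w - 1 + a * b * t - Y)) = a ^ 4 * G4 1 F4.w 1 b := by decide +kernel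

theorem chk4 : Chk4 (F4) F4.w 1 F4.w 1 F4.w 1 where
  cyc := fun t => by
    obtain ⟨a, ha, b, hb, Y, hY, h⟩ := cyc4 t
    exact ⟨a, b, Y, ha, hb, hY, h⟩
  one := fun k t hk => by
    obtain ⟨a, ha, b, hb, Y, hY, hYk, h⟩ := one4 k hk t
    exact ⟨a, b, Y, ha, hb, hY, hYk, h⟩
  two := fun t d hd hx => by
    rcases sp_cases t d hd hx with ⟨rfl, rfl⟩ | ⟨rfl, rfl⟩
    · exact sp0
    · exact sp1
  exc := by decide +kernel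

theorem irr_p : Irreducible (qt (0 : F4) 1 0 0 (-1)) :=
  qt_irr (by decide +kernel) (by decide +kernel)

theorem irr_h : Irreducible (qt (1 : F4) 1 0 1 (-1)) :=
  qt_irr (by decide +kernel) (by decide +kernel)

theorem cyc5 : ∀ t : F4, ∃ a : F4, a ≠ 0 ∧ ∃ b : F4, b ≠ 0 ∧ ∃ Y : F4, Y ≠ 1 ∧
    Y * (a * 0 - 3 + a * b * t - Y) + a ^ 5 * G5 1 1 0 1 b = 0 := by decide +kernel

theorem one5 : ∀ k : F4, k ≠ 0 → ∀ t : F4, ∃ a : F4, a ≠ 0 ∧ ∃ b : F4, b ≠ 0 ∧ ∃ Y : F4, Y ≠ 1 ∧ Y ≠ a * b * k ∧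
    (a * b * k) * (Y * (a * 0 - 2 + a * b * t - Y)) + a ^ 5 * G5 1 1 0 1 b = 0 := by decide +kernel

theorem two5 : ∀ s t : F4, ∃ a : F4, a ≠ 0 ∧ ∃ b : F4, b ≠ 0 ∧ a * b * s ≠ 1 ∧ ∃ Y : F4, Y ≠ 1 ∧ Y ≠ a * b * s - 1 ∧
    (a * b * s - 1) * (Y * (a * 0 - 1 + a * b * t - Y)) + a ^ 5 * G5 1 1 0 1 b = 0 := by decide +kernel

theorem chk5 : Chk5 (F4) 0 1 0 0 1 1 0 1 where
  cyc := fun t => by
    obtain ⟨a, ha, b, hb, Y, hY, h⟩ := cyc5 t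
    exact ⟨a, b, Y, ha, hb, hY, h⟩
  one := fun k t hk => by
    obtain ⟨a, ha, b, hb, Y, hY, hYk, h⟩ := one5 k hk t
    exact ⟨a, b, Y, ha, hb, hY, hYk, h⟩
  two := fun s t => by
    obtain ⟨a, ha, b, hb, hs, Y, hY, hYk, h⟩ := two5 s t
    exact ⟨a, b, Y, ha, hb, hY, hs, hYk, h⟩
  exc := by decide +kernel

theorem four : ∃ c d : SpecialLinearGroup (Fin 4) (F4), Pr 4 (F4) c d :=
  four_pr (M := M) (N := N) chk4 irr_f irr_g (by rw [F4.natCard]; norm_num) (by decide +kernel) (by decide +kernel)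
    M_pow N_pow (by norm_num) (by norm_num)

theorem five : ∃ c d : SpecialLinearGroup (Fin 5) (F4), Pr 5 (F4) c d :=
  five_pr chk5 irr_p irr_h (q := 4) (N := 341) F4.natCard (by norm_num) (by norm_num)

end Cfsg.Agent.H46.TL.QFour
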