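import Cfsg.Agent.H46.TL.Four
import Cfsg.Agent.H27.Psl.Irr
import Mathlib.LinearAlgebra.Matrix.SpecialLinearGroup

/-!
# From `Dec` to conjugates in `SL_n(F)`
-/

set_option autoImplicit false

namespace Cfsg.Agent.H46.TL

open Polynomial Cfsg.Agent.H962.PP Module Matrix Cfsg.Agent.H27.Psl

universe u v

variable {F : Type u} [Field F]

/-- an endomorphism with irreducible characteristic polynomial is irreducible -/
theorem irr_of_charpoly {V : Type v} [AddCommGroup V] [Module F V] [FiniteDimensional F V] {T : Module.End F V}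
    (h : Irreducible (LinearMap.charpoly T)) : Irr T := by
  intro U hU
  by_cases hb : U = ⊥
  · exact Or.inl hb
  right
  obtain ⟨v, hvU, hv⟩ := (Submodule.ne_bot_iff U).1 hb
  have : Fact (Irreducible (LinearMap.charpoly T)) := ⟨h⟩
  have h0 := LinearMap.aeval_self_charpoly T
  have hinj := phi_injective T h0 hv
  have : FiniteDimensional F (AdjoinRoot (LinearMap.charpoly T)) := (AdjoinRoot.powerBasis h.ne_zero).finite
  have hfr : finrank F (AdjoinRoot (LinearMap.charpoly T)) = finrank F V := by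
    rw [(AdjoinRoot.powerBasis h.ne_zero).finrank, ← LinearMap.charpoly_natDegree T]
    rfl
  have hsurj := (LinearMap.injective_iff_surjective_of_finrank_eq_finrank hfr).1 hinj
  rw [eq_top_iff]
  rintro w -
  obtain ⟨e, rfl⟩ := hsurj w
  obtain ⟨p, rfl⟩ := AdjoinRoot.mk_surjective e
  rw [phi_apply, rho_mk]
  have hpow : ∀ i : ℕ, (T ^ i) v ∈ U := by
    intro i
    induction i with
    | zero => simpa using hvU
    | succ i ih => rw [pow_succ', Module.End.mul_apply]; exact hU _ ih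
  rw [aeval_eq_sum_range, LinearMap.sum_apply]
  exact Submodule.sum_mem _ fun i _ => by rw [LinearMap.smul_apply]; exact Submodule.smul_mem _ _ (hpow i)

theorem charpoly_toLin' {n : ℕ} (M : Matrix (Fin n) (Fin n) F) : LinearMap.charpoly (Matrix.toLin' M) = M.charpoly := by
  rw [← LinearMap.charpoly_toMatrix (Matrix.toLin' M) (Pi.basisFun F (Fin n)), LinearMap.toMatrix_eq_toMatrix',
    LinearMap.toMatrix'_toLin']

/-- conjugate in `SL_n(F)` -/
theorem sl_conj [Finite F] {n : ℕ} {c : SpecialLinearGroup (Fin n) F} {M : Matrix (Fin n) (Fin n) F}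
    (hi : Irreducible (c : Matrix (Fin n) (Fin n) F).charpoly)
    (h : M.charpoly = (c : Matrix (Fin n) (Fin n) F).charpoly) :
    ∃ g : SpecialLinearGroup (Fin n) F, M = g.1 * c.1 * g⁻¹.1 := by
  obtain ⟨A, hA⟩ : ∃ A : Module.End F (Fin n → F), A = Matrix.toLin' (c : Matrix (Fin n) (Fin n) F) := ⟨_, rfl⟩
  obtain ⟨B, hB⟩ : ∃ B : Module.End F (Fin n → F), B = Matrix.toLin' M := ⟨_, rfl⟩
  have hAc : LinearMap.charpoly A = (c : Matrix (Fin n) (Fin n) F).charpoly := by rw [hA, charpoly_toLin']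
  have hBc : LinearMap.charpoly B = (c : Matrix (Fin n) (Fin n) F).charpoly := by rw [hB, charpoly_toLin', h]
  have hirr : Irr A := irr_of_charpoly (by rw [hAc]; exact hi)
  have hn : 0 < finrank F (Fin n → F) := by
    rw [← LinearMap.charpoly_natDegree A, hAc]; exact hi.natDegree_pos
  have : Nontrivial (Fin n → F) := Module.finrank_pos_iff.1 hn
  have hmp : minpoly F A = LinearMap.charpoly A := by
    refine eq_of_monic_of_associated (minpoly.monic (Algebra.IsIntegral.isIntegral A)) (LinearMap.charpoly_monic A) ?_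
    exact (hirr.irreducible.associated_of_dvd (by rw [hAc]; exact hi) (LinearMap.minpoly_dvd_charpoly A))
  obtain ⟨g, hg, hgw⟩ := hirr.exists_equiv_det (B := B) (by
    rw [hmp, hAc, ← hBc]; exact LinearMap.aeval_self_charpoly B)
  have hdet : (LinearMap.toMatrix' (g : (Fin n → F) →ₗ[F] (Fin n → F))).det = 1 := by
    rw [LinearMap.det_toMatrix', hg]
  obtain ⟨P, hP⟩ : ∃ P : SpecialLinearGroup (Fin n) F, (P : Matrix (Fin n) (Fin n) F) =
    LinearMap.toMatrix' (g : (Fin n → F) →ₗ[F] (Fin n → F)) := ⟨⟨_, hdet⟩, rfl⟩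
  refine ⟨P, ?_⟩
  have e1 : (P : Matrix (Fin n) (Fin n) F) * (c : Matrix (Fin n) (Fin n) F) = M * (P : Matrix (Fin n) (Fin n) F) := by
    apply Matrix.toLin'.injective
    rw [Matrix.toLin'_mul, Matrix.toLin'_mul, hP, Matrix.toLin'_toMatrix', ← hA, ← hB]
    exact LinearMap.ext fun w => hgw w
  have e2 : P.1 * P⁻¹.1 = 1 := congrArg Subtype.val (mul_inv_cancel P)
  change M = (P : Matrix (Fin n) (Fin n) F) * (c : Matrix (Fin n) (Fin n) F) * P⁻¹.1
  rw [e1, Matrix.mul_assoc, e2, Matrix.mul_one]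

theorem charpoly_toMatrix'' {n : ℕ} (T : Module.End F (Fin n → F)) :
    (LinearMap.toMatrix' T).charpoly = LinearMap.charpoly T := by
  rw [← LinearMap.toMatrix_eq_toMatrix', LinearMap.charpoly_toMatrix]

/-- every nonscalar element is a product of a conjugate of `c` and a conjugate of `d` -/
def TLC (n : ℕ) (K : Type u) [Field K] (c d : SpecialLinearGroup (Fin n) K) : Prop :=
  ∀ A : SpecialLinearGroup (Fin n) K, (∀ a : K, (A : Matrix (Fin n) (Fin n) K) ≠ a • (1 : Matrix (Fin n) (Fin n) K)) →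
    ∃ g h : SpecialLinearGroup (Fin n) K, A = (g * c * g⁻¹) * (h * d * h⁻¹)

theorem tlc_of [Finite F] {n : ℕ} {c d : SpecialLinearGroup (Fin n) F}
    (hc : Irreducible (c : Matrix (Fin n) (Fin n) F).charpoly) (hd : Irreducible (d : Matrix (Fin n) (Fin n) F).charpoly)
    (h : ∀ A : Module.End F (Fin n → F), LinearMap.det A = 1 → (∀ a : F, A ≠ a • 1) →
      Dec A (d : Matrix (Fin n) (Fin n) F).charpoly (c : Matrix (Fin n) (Fin n) F).charpoly) : TLC n F c d := by
  intro A hA
  obtain ⟨X, Y, hYX, hX, hY⟩ := h (Matrix.toLin' (A : Matrix (Fin n) (Fin n) F)) (by rw [LinearMap.det_toLin', A.2]) (by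
    intro a ha
    apply hA a
    have h1 := congrArg LinearMap.toMatrix' ha
    rw [LinearMap.toMatrix'_toLin', map_smul] at h1
    rw [h1]
    congr 1
    exact LinearMap.toMatrix'_one)
  obtain ⟨g, hg⟩ := sl_conj (M := LinearMap.toMatrix' Y) hc (by rw [charpoly_toMatrix'', hY])
  obtain ⟨k, hk⟩ := sl_conj (M := LinearMap.toMatrix' X) hd (by rw [charpoly_toMatrix'', hX])
  refine ⟨g, k, Subtype.ext ?_⟩
  change A.1 = (g.1 * c.1 * g⁻¹.1) * (k.1 * d.1 * k⁻¹.1)
  rw [← hg, ← hk, ← LinearMap.toMatrix'_mul, hYX, LinearMap.toMatrix'_toLin']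

end Cfsg.Agent.H46.TL
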