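import Cfsg.Agent.H962.PP.Five

/-!
# Fixed pairs of irreducible characteristic polynomials: the slices with two scaling parameters

* `cyc_sc` : a cyclic element;
* `two_sc` : two blocks.
-/

set_option autoImplicit false

namespace Cfsg.Agent.H46.TL

open Polynomial Cfsg.Agent.H962.PP

universe u v

variable {F : Type u} [Field F] {V : Type v} [AddCommGroup V] [Module F V] [FiniteDimensional F V]

/-- undo the scaling -/
theorem unscale {T : Module.End F V} {a : F} (ha : a ≠ 0) {f : F[X]} (hfd : f.natDegree = Module.finrank F V)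
    (h : LinearMap.charpoly T = scl a f) : LinearMap.charpoly (a⁻¹ • T) = f := by
  rw [Cfsg.Agent.H130.War.charpoly_smul (inv_ne_zero ha), h, scl, mul_comp, C_comp, comp_assoc, mul_comp, C_comp, X_comp,
    ← mul_assoc, ← mul_assoc, ← C_mul, ← C_mul, hfd, ← mul_pow, inv_mul_cancel₀ ha, one_pow, inv_inv,
    inv_mul_cancel₀ ha, C_1, one_mul, one_mul, comp_X]

/-- the conclusion -/
def Dec (A : Module.End F V) (f g : F[X]) : Prop :=
  ∃ X Y : Module.End F V, Y * X = A ∧ LinearMap.charpoly X = f ∧ LinearMap.charpoly Y = g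

theorem dec_of {A : Module.End F V} {f g : F[X]} (hfd : f.natDegree = Module.finrank F V)
    (hgd : g.natDegree = Module.finrank F V) {a b : F} (ha : a ≠ 0) (hb : b ≠ 0)
    (h : Dec ((a * b) • A) (scl a f) (scl b g)) : Dec A f g := by
  obtain ⟨X, Y, hYX, hX, hY⟩ := h
  refine ⟨a⁻¹ • X, b⁻¹ • Y, ?_, unscale ha hfd hX, unscale hb hgd hY⟩
  rw [smul_mul_smul_comm, hYX, smul_smul, show b⁻¹ * a⁻¹ * (a * b) = 1 by field_simp, one_smul]

/-- a cyclic element -/
theorem cyc_sc {k : ℕ} (hV : Module.finrank F V = k + 2) (A : Module.End F V) {v : V}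
    {G : F[X]} (hG : G.Monic) (hGd : G.natDegree = k + 2)
    (hs : ⊤ ≤ Submodule.span F (Set.range fun i : Fin (k + 2) => (A ^ (i : ℕ)) v)) (h0 : aeval A G v = 0)
    {f g : F[X]} (hf : f.Monic) (hfi : Irreducible f) (hfd : f.natDegree = k + 2)
    (hg : g.Monic) (hgi : Irreducible g) (hgd : g.natDegree = k + 2)
    (hdet : (-1) ^ (k + 2) * G.coeff 0 = f.coeff 0 * g.coeff 0) {a b Y : F} (ha : a ≠ 0) (hb : b ≠ 0) (hY : Y ≠ 1)
    (heq : Y * (2 - ((k + 2 : ℕ) : F) + a * f.coeff (k + 1) - a * b * G.coeff (k + 1) - Y) =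
      a ^ (k + 2) * f.coeff 0 * (scl b g).eval 1) : Dec A f g := by
  have hL : a * b ≠ 0 := mul_ne_zero ha hb
  have hs1 : ⊤ ≤ Submodule.span F (Set.range (fun i : Fin 0 => (A ^ (i : ℕ)) v) ∪
      Set.range fun i : Fin (k + 2) => (A ^ (i : ℕ)) v) :=
    hs.trans (Submodule.span_mono Set.subset_union_right)
  have hs' := span_shift hL A v v hs1
  have h0' := shf_aeval hL A h0
  have hd := shf_monic hL hG
  have hdd : (shf (a * b) G).natDegree = k + 2 := (shf_natDegree hL G).trans hGd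
  refine dec_of (hfd.trans hV.symm) (hgd.trans hV.symm) ha hb ?_
  refine slice_cyc (k := k) hV ((a * b) • A) (v0 := v) (d := shf (a * b) G) (f := scl a f) (g := scl b g) (c := Y - 1) (by
    refine hs'.trans (Submodule.span_mono ?_)
    refine Set.union_subset ?_ ?_
    · rintro _ ⟨i, rfl⟩; exact i.elim0
    · rintro _ ⟨i, rfl⟩; exact ⟨i, rfl⟩) hd hdd h0' (scl_monic ha hf) (scl_irr ha hfi) ((scl_natDegree ha f).trans hfd)
    (scl_monic hb hg) (scl_irr hb hgi) ((scl_natDegree hb g).trans hgd) (sub_ne_zero.2 hY) ?_ ?_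
  · have e1 := alt_sum hd (m := k + 1) hdd
    rw [shf_eval hL, hGd, Finset.sum_range_succ, Nat.sub_self, pow_zero, mul_one] at e1
    rw [scl_coeff ha f (Nat.zero_le _), scl_coeff hb g (Nat.zero_le _), hfd, hgd, Nat.sub_zero]
    have e2 : ∑ i ∈ Finset.range (k + 1), (shf (a * b) G).coeff i * (-1) ^ (k + 1 - i) =
        - ∑ i ∈ Finset.range (k + 1), (shf (a * b) G).coeff i * (-1) ^ (k - i) := by
      rw [← Finset.sum_neg_distrib]
      refine Finset.sum_congr rfl fun i hi => ?_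
      have := Finset.mem_range.1 hi
      rw [show k + 1 - i = (k - i) + 1 by omega, pow_succ]
      ring
    rw [e2] at e1
    rw [show (1 - (shf (a * b) G).coeff (k + 1) + ∑ i ∈ Finset.range (k + 1), (shf (a * b) G).coeff i * (-1) ^ (k - i)) =
      1 - (-∑ i ∈ Finset.range (k + 1), (shf (a * b) G).coeff i * (-1) ^ (k - i) + (shf (a * b) G).coeff (k + 1)) by ring,
      e1, mul_pow]
    linear_combination (a ^ (k + 2) * b ^ (k + 2)) * hdet
  · rw [scl_coeff ha f (Nat.zero_le _), scl_coeff ha f (by omega), hfd, shf_coeff hL hG (m := k + 1) hGd, Nat.sub_zero,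
      show k + 2 - (k + 1) = 1 by omega, pow_one]
    rw [← heq]
    push_cast
    ring

/-- two blocks -/
theorem two_sc {ρ σ : ℕ} (hV : Module.finrank F V = ρ + 1 + (σ + 1) + 2) (A : Module.End F V) {v w : V}
    {G H : F[X]} (hG : G.Monic) (hGd : G.natDegree = σ + 3) (hH : H.Monic) (hHd : H.natDegree = ρ + 1)
    (hs : ⊤ ≤ Submodule.span F (Set.range (fun i : Fin (ρ + 1) => (A ^ (i : ℕ)) w) ∪
      Set.range fun i : Fin (σ + 3) => (A ^ (i : ℕ)) v)) (h0 : aeval A G v = 0) (h1 : aeval A H w = 0)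
    {f g : F[X]} (hf : f.Monic) (hfi : Irreducible f) (hfd : f.natDegree = ρ + 1 + (σ + 1) + 2)
    (hg : g.Monic) (hgi : Irreducible g) (hgd : g.natDegree = ρ + 1 + (σ + 1) + 2)
    (hH0 : H.coeff 0 ≠ 0)
    (hdet : (-1) ^ (ρ + 1 + (σ + 3)) * (H.coeff 0 * G.coeff 0) = f.coeff 0 * g.coeff 0) {a b Y : F} (ha : a ≠ 0)
    (hb : b ≠ 0) (hY : Y ≠ 1) (hl : -(ρ : F) - a * b * H.coeff ρ ≠ 0) (hYl : Y ≠ -(ρ : F) - a * b * H.coeff ρ)
    (heq : (-(ρ : F) - a * b * H.coeff ρ) * (Y * (2 - ((σ + 3 : ℕ) : F) + a * f.coeff (ρ + 1 + (σ + 1) + 1) -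
      a * b * G.coeff (σ + 2) - Y)) = a ^ (ρ + 1 + (σ + 1) + 2) * f.coeff 0 * (scl b g).eval 1) : Dec A f g := by
  have hL : a * b ≠ 0 := mul_ne_zero ha hb
  have hs' := span_shift hL A w v hs
  have hd := shf_monic hL hG
  have hdd : (shf (a * b) G).natDegree = σ + 3 := (shf_natDegree hL G).trans hGd
  have hp := shf_monic hL hH
  have hpd : (shf (a * b) H).natDegree = ρ + 1 := (shf_natDegree hL H).trans hHd
  have hp1 : 1 - (shf (a * b) H).coeff ρ = -(ρ : F) - a * b * H.coeff ρ := by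
    rw [shf_coeff hL hH (m := ρ) hHd]; push_cast; ring
  have hd1 : (shf (a * b) G).coeff (σ + 2) = ((σ + 3 : ℕ) : F) + a * b * G.coeff (σ + 2) := by
    rw [shf_coeff hL hG (m := σ + 2) hGd]
  have e2 := alt_sum hp hpd
  rw [shf_eval hL, hHd] at e2
  have e3 : 1 - (shf (a * b) G).coeff (σ + 2) + ∑ i ∈ Finset.range (σ + 2), (shf (a * b) G).coeff i * (-1) ^ (σ + 1 - i) =
      (-1) ^ (σ + 3) * ((a * b) ^ (σ + 3) * G.coeff 0) := by
    have e1 := alt_sum hd (m := σ + 2) hdd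
    rw [shf_eval hL, hGd, Finset.sum_range_succ, Nat.sub_self, pow_zero, mul_one] at e1
    have e4 : ∑ i ∈ Finset.range (σ + 2), (shf (a * b) G).coeff i * (-1) ^ (σ + 2 - i) =
        - ∑ i ∈ Finset.range (σ + 2), (shf (a * b) G).coeff i * (-1) ^ (σ + 1 - i) := by
      rw [← Finset.sum_neg_distrib]
      refine Finset.sum_congr rfl fun i hi => ?_
      have := Finset.mem_range.1 hi
      rw [show σ + 2 - i = (σ + 1 - i) + 1 by omega, pow_succ]
      ring
    rw [e4] at e1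
    rw [← e1]
    ring
  refine dec_of (hfd.trans hV.symm) (hgd.trans hV.symm) ha hb ?_
  refine slice_two (ρ := ρ) (σ := σ) hV ((a * b) • A) (v1 := w) (v2 := v) (p := shf (a * b) H) (d := shf (a * b) G)
    (f := scl a f) (g := scl b g) (c := Y - 1) hs' hp hpd (shf_aeval hL A h1) hd hdd (shf_aeval hL A h0)
    (scl_monic ha hf) (scl_irr ha hfi) ((scl_natDegree ha f).trans hfd)
    (scl_monic hb hg) (scl_irr hb hgi) ((scl_natDegree hb g).trans hgd) (sub_ne_zero.2 hY) ?_ ?_ ?_ ?_ ?_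
  · rw [hp1]; exact hl
  · rw [e2]
    exact mul_ne_zero (pow_ne_zero _ (by simp)) (mul_ne_zero (pow_ne_zero _ hL) hH0)
  · rw [hp1, add_sub_cancel]; exact hYl
  · rw [e2, e3, scl_coeff ha f (Nat.zero_le _), scl_coeff hb g (Nat.zero_le _), hfd, hgd, Nat.sub_zero, mul_pow, mul_pow]
    rw [pow_add (-1 : F)] at hdet
    have e5 : a ^ (ρ + 1 + (σ + 1) + 2) = a ^ (ρ + 1) * a ^ (σ + 3) := by rw [← pow_add]; congr 1
    have e6 : b ^ (ρ + 1 + (σ + 1) + 2) = b ^ (ρ + 1) * b ^ (σ + 3) := by rw [← pow_add]; congr 1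
    rw [e5, e6]
    linear_combination (a ^ (ρ + 1) * a ^ (σ + 3) * b ^ (ρ + 1) * b ^ (σ + 3)) * hdet
  · rw [hp1, hd1, scl_coeff ha f (Nat.zero_le _), scl_coeff ha f (by omega), hfd, Nat.sub_zero,
      show ρ + 1 + (σ + 1) + 2 - (ρ + 1 + (σ + 1) + 1) = 1 by omega, pow_one, ← heq]
    ring

end Cfsg.Agent.H46.TL
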